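import Cfsg.Agent.H244.Kondo.Dih
import Cfsg.Agent.SylowSp4.ExtTransfer

/-!
# Fusion of involutions in groups with Sylow 2-subgroup `D₈ ≀ T` (helper244, for S3191)

The abstract set-up `KD P C j` : `j : (Fin n → D) →* G` is injective with image `J` in the Sylow 2-subgroup `P ≤ C = C_G(t)`,
`t = j (z, ..., z)`.  Main results (no subgroup of index two): every involution of `P` is conjugate to an element of
`j '' {1, z}^n`, and two elements of this form are conjugate only if they have the same number of components `z`.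
-/

set_option autoImplicit false

namespace Cfsg.Agent.H244.Kondo

open Subgroup

section General

variable {G : Type*} [Group G] [Finite G]

theorem conj_mem_of_le {J : Subgroup G} {g : G} (h : ∀ x ∈ J, g * x * g⁻¹ ∈ J) : ∀ x ∈ J, g⁻¹ * x * g ∈ J := by
  have h1 : g ∈ normalizer (J : Set G) := mem_normalizer_fintype h
  intro x hx
  have h2 := (mem_normalizer_iff.1 ((normalizer (J : Set G)).inv_mem h1) x).1 hx
  rwa [inv_inv] at h2

/-- weak closure and Sylow's theorem in a subgroup `N` -/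
theorem exists_conj_of_weakly_closed {p : ℕ} [Fact p.Prime] (P : Sylow p G) (J : Subgroup G)
    (hJ : J ≤ (P : Subgroup G))
    (hw : ∀ g : G, (∀ x ∈ J, g * x * g⁻¹ ∈ (P : Subgroup G)) → ∀ x ∈ J, g * x * g⁻¹ ∈ J)
    (N : Subgroup G) (hJN : J ≤ N) (g : G) (hg : ∀ x ∈ J, g * x * g⁻¹ ∈ N) :
    ∃ c ∈ N, ∀ x ∈ J, (c * g) * x * (c * g)⁻¹ ∈ J := by
  have hJp : IsPGroup p J := P.isPGroup'.to_le hJ
  have h1 : IsPGroup p (J.subgroupOf N) := hJp.comap_of_injective N.subtype N.subtype_injective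
  have h2 : IsPGroup p ((J.map (MulAut.conj g).toMonoidHom).subgroupOf N) :=
    (hJp.map (MulAut.conj g).toMonoidHom).comap_of_injective N.subtype N.subtype_injective
  obtain ⟨P1, hP1⟩ := h1.exists_le_sylow
  obtain ⟨P2, hP2⟩ := h2.exists_le_sylow
  obtain ⟨c, hc⟩ := MulAction.exists_smul_eq N P2 P1
  have h3 : IsPGroup p ((P1 : Subgroup N).map N.subtype) := P1.isPGroup'.map N.subtype
  obtain ⟨Q, hQ⟩ := h3.exists_le_sylow
  obtain ⟨k, hk⟩ := MulAction.exists_smul_eq G P Q
  have hk1 : ∀ x, x ∈ (Q : Subgroup G) → k⁻¹ * x * k ∈ (P : Subgroup G) := by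
    intro x hx
    rw [← hk, Sylow.coe_subgroup_smul, Subgroup.mem_smul_pointwise_iff_exists] at hx
    obtain ⟨y, hy, rfl⟩ := hx
    rw [MulAut.smul_def, MulAut.conj_apply]
    have : k⁻¹ * (k * y * k⁻¹) * k = y := by group
    rw [this]; exact hy
  have hkJ : ∀ x ∈ J, k⁻¹ * x * k ∈ J := by
    have := hw k⁻¹ (by
      intro x hx
      rw [inv_inv]
      apply hk1
      apply hQ
      exact ⟨⟨x, hJN hx⟩, hP1 hx, rfl⟩)
    intro x hx
    have h4 := this x hx
    rwa [inv_inv] at h4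
  have hkJ' : ∀ x ∈ J, k * x * k⁻¹ ∈ J := by
    have := conj_mem_of_le (J := J) (g := k⁻¹) (by
      intro x hx; rw [inv_inv]; exact hkJ x hx)
    intro x hx
    have h4 := this x hx
    rwa [inv_inv] at h4
  have hcg : ∀ x ∈ J, ((c : G) * g) * x * ((c : G) * g)⁻¹ ∈ (Q : Subgroup G) := by
    intro x hx
    apply hQ
    have h4 : (⟨g * x * g⁻¹, hg x hx⟩ : N) ∈ (P2 : Subgroup N) := hP2 ⟨x, hx, rfl⟩
    have h5 : c * ⟨g * x * g⁻¹, hg x hx⟩ * c⁻¹ ∈ (P1 : Subgroup N) := by
      rw [← hc, Sylow.coe_subgroup_smul, Subgroup.mem_smul_pointwise_iff_exists]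
      exact ⟨_, h4, rfl⟩
    refine ⟨_, h5, ?_⟩
    simp only [map_mul, map_inv, coe_subtype]
    group
  refine ⟨c, c.2, ?_⟩
  intro x hx
  have h6 := hw (k⁻¹ * ((c : G) * g)) (by
    intro y hy
    have h7 := hk1 _ (hcg y hy)
    have e : k⁻¹ * ((c : G) * g) * y * (k⁻¹ * ((c : G) * g))⁻¹ = k⁻¹ * ((c : G) * g * y * ((c : G) * g)⁻¹) * k := by
      group
    rw [e]; exact h7) x hx
  have h8 := hkJ' _ h6
  have e : k * (k⁻¹ * ((c : G) * g) * x * (k⁻¹ * ((c : G) * g))⁻¹) * k⁻¹ = (c : G) * g * x * ((c : G) * g)⁻¹ := by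
    group
  rwa [e] at h8

end General

section Main

variable {G : Type*} [Group G] [Finite G] {n : ℕ}

/-- the set-up -/
structure KD (P : Sylow 2 G) (C : Subgroup G) (j : (Fin n → D) →* G) : Prop where
  inj : Function.Injective j
  le : ∀ f, j f ∈ (P : Subgroup G)
  leC : (P : Subgroup G) ≤ C
  cent : ∀ g, g * j (fun _ => z) * g⁻¹ = j (fun _ => z) → g ∈ C
  rank : ∀ A : Subgroup G, A ≤ (P : Subgroup G) → (∀ a ∈ A, a * a = 1) → Nat.card A = 4 ^ n → A ≤ j.range
  norm : ∀ g ∈ C, (∀ f, g * j f * g⁻¹ ∈ j.range) →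
    ∀ f ∈ Rm (fun _ : Fin n => true), g * j f * g⁻¹ ∈ (Rm (fun _ : Fin n => true)).map j
  perm : ∀ σ : Equiv.Perm (Fin n), ∃ h ∈ C, ∀ f, h * j f * h⁻¹ = j (fun i => f (σ i))
  ch : ∀ b : Bool, ∃ χ : C →* ℤˣ, ∀ f, χ ⟨j f, leC (le f)⟩ = ∏ i, chi b (f i)
  inv : ∀ x ∈ (P : Subgroup G), x * x = 1 → ∃ g, g * x * g⁻¹ ∈ j.range

/-- the `i`-th central involution -/
def zi (i : Fin n) : Fin n → D := Pi.mulSingle i z

/-- the product of the `z_i`, `i ∈ I` -/
def zI (I : Finset (Fin n)) : Fin n → D := fun i => if i ∈ I then z else 1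

theorem zi_ne_one (i : Fin n) : zi i ≠ 1 := by
  intro h
  have h1 := congrFun h i
  rw [zi, Pi.mulSingle_eq_same, Pi.one_apply] at h1
  exact z_ne_one h1

theorem zi_inj {i l : Fin n} (h : zi i = zi l) : i = l := by
  by_contra hne
  have h1 := congrFun h i
  rw [zi, zi, Pi.mulSingle_eq_same, Pi.mulSingle_eq_of_ne hne] at h1
  exact z_ne_one h1

theorem zI_empty : zI (∅ : Finset (Fin n)) = 1 := by
  funext i
  simp [zI]

theorem zI_insert {a : Fin n} {I : Finset (Fin n)} (ha : a ∉ I) : zI (insert a I) = zi a * zI I := by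
  funext i
  rw [Pi.mul_apply, zi]
  by_cases h : i = a
  · subst h
    rw [Pi.mulSingle_eq_same, zI, zI, if_pos (Finset.mem_insert_self _ _), if_neg ha, mul_one]
  · rw [Pi.mulSingle_eq_of_ne h, one_mul, zI, zI]
    by_cases h2 : i ∈ I
    · rw [if_pos (Finset.mem_insert_of_mem h2), if_pos h2]
    · rw [if_neg (by rw [Finset.mem_insert]; tauto), if_neg h2]

theorem zI_univ : zI (Finset.univ : Finset (Fin n)) = fun _ => z := by
  funext i
  simp [zI]

theorem exists_zI {f : Fin n → D} (hf : ∀ i, f i = 1 ∨ f i = z) : ∃ I, f = zI I := by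
  classical
  refine ⟨Finset.univ.filter (fun i => f i = z), ?_⟩
  funext i
  rw [zI]
  by_cases h : f i = z
  · rw [if_pos (by rw [Finset.mem_filter]; exact ⟨Finset.mem_univ _, h⟩), h]
  · rw [if_neg (by rw [Finset.mem_filter]; tauto)]
    exact (hf i).resolve_right h

theorem zI_inj {I I' : Finset (Fin n)} (h : zI I = zI I') : I = I' := by
  ext i
  have h1 := congrFun h i
  rw [zI, zI] at h1
  by_cases h2 : i ∈ I <;> by_cases h3 : i ∈ I'
  · exact ⟨fun _ => h3, fun _ => h2⟩
  · rw [if_pos h2, if_neg h3] at h1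
    exact absurd h1 z_ne_one
  · rw [if_neg h2, if_pos h3] at h1
    exact absurd h1.symm z_ne_one
  · exact ⟨fun h => absurd h h2, fun h => absurd h h3⟩

theorem single_comm (i : Fin n) (q : D) (y : Fin n → D) :
    Pi.mulSingle i q * y * (Pi.mulSingle i q)⁻¹ * y⁻¹ = Pi.mulSingle i (q * y i * q⁻¹ * (y i)⁻¹) := by
  funext m
  by_cases h : m = i
  · subst h
    simp only [Pi.mul_apply, Pi.inv_apply, Pi.mulSingle_eq_same]
  · simp only [Pi.mul_apply, Pi.inv_apply, Pi.mulSingle_eq_of_ne h]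
    group

theorem comm_single (x : Fin n → D) (l : Fin n) (w : D) :
    x * Pi.mulSingle l w * x⁻¹ * (Pi.mulSingle l w)⁻¹ = Pi.mulSingle l (x l * w * (x l)⁻¹ * w⁻¹) := by
  funext m
  by_cases h : m = l
  · subst h
    simp only [Pi.mul_apply, Pi.inv_apply, Pi.mulSingle_eq_same]
  · simp only [Pi.mul_apply, Pi.inv_apply, Pi.mulSingle_eq_of_ne h]
    group

section Hom

variable {j : (Fin n → D) →* G} (hj : Function.Injective j)
include hj

omit [Finite G] in
/-- minimal commutators: the image of `z_i` -/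
theorem zi_map {g : G} {i l : Fin n} {q : D} {x' y : Fin n → D} {w : D}
    (hx : g * j (Pi.mulSingle i q) * g⁻¹ = j x') (hy : g * j y * g⁻¹ = j (Pi.mulSingle l w))
    (hw : x' l * w * (x' l)⁻¹ * w⁻¹ = z) : g * j (zi i) * g⁻¹ = j (zi l) := by
  have h1 : g * j (Pi.mulSingle i q * y * (Pi.mulSingle i q)⁻¹ * y⁻¹) * g⁻¹ =
      j (x' * Pi.mulSingle l w * x'⁻¹ * (Pi.mulSingle l w)⁻¹) := by
    simp only [map_mul, map_inv]
    rw [← hx, ← hy]
    group
  rw [single_comm, comm_single, hw] at h1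
  rcases comm_eq q (y i) with h2 | h2
  · rw [h2, Pi.mulSingle_one, map_one] at h1
    have h3 : j (zi l) = 1 := by rw [zi, ← h1]; group
    rw [← map_one j] at h3
    exact absurd (hj h3) (zi_ne_one l)
  · rw [h2] at h1
    exact h1

omit [Finite G] hj in
theorem zI_map {g : G} {σ : Fin n → Fin n} (hσ : Function.Injective σ) {I : Finset (Fin n)}
    (h : ∀ i ∈ I, g * j (zi i) * g⁻¹ = j (zi (σ i))) : g * j (zI I) * g⁻¹ = j (zI (I.image σ)) := by
  classical
  induction I using Finset.induction_on with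
  | empty => rw [Finset.image_empty, zI_empty, map_one]; group
  | insert a I ha ih =>
    have h1 : σ a ∉ I.image σ := by
      rw [Finset.mem_image]
      rintro ⟨b, hb, hba⟩
      exact ha (hσ hba ▸ hb)
    rw [Finset.image_insert, zI_insert ha, zI_insert h1, map_mul, map_mul,
      ← ih (fun i hi => h i (Finset.mem_insert_of_mem hi)), ← h a (Finset.mem_insert_self _ _)]
    group

/-- elements normalising `J` permute the `z_i` -/
theorem exists_perm {g : G} (hg : ∀ f, g * j f * g⁻¹ ∈ j.range) :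
    ∃ σ : Fin n → Fin n, Function.Injective σ ∧ ∀ i, g * j (zi i) * g⁻¹ = j (zi (σ i)) := by
  have hg' : ∀ x ∈ j.range, g * x * g⁻¹ ∈ j.range := by
    rintro _ ⟨f, rfl⟩; exact hg f
  have hsur : ∀ y', ∃ y, g * j y * g⁻¹ = j y' := by
    intro y'
    obtain ⟨y, hy⟩ := conj_mem_of_le hg' (j y') ⟨y', rfl⟩
    exact ⟨y, by rw [hy]; group⟩
  have key : ∀ i, ∃ l, g * j (zi i) * g⁻¹ = j (zi l) := by
    intro i
    obtain ⟨x', hx'⟩ := hg (Pi.mulSingle i (DihedralGroup.r 1))
    have h1 : ∃ l, x' l ≠ 1 ∧ x' l ≠ z := by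
      by_contra hcon
      push Not at hcon
      have hc : ∀ y, x' * y = y * x' := by
        intro y
        funext m
        rw [Pi.mul_apply, Pi.mul_apply]
        by_cases h2 : x' m = 1
        · rw [h2, one_mul, mul_one]
        · rw [hcon m h2, z_comm]
      obtain ⟨w, hw⟩ := hg (Pi.mulSingle i (rr true))
      have h3 : j (Pi.mulSingle i (DihedralGroup.r 1) * Pi.mulSingle i (rr true)) =
          j (Pi.mulSingle i (rr true) * Pi.mulSingle i (DihedralGroup.r 1)) := by
        rw [map_mul, map_mul]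
        have h4 := congrArg j (hc w)
        rw [map_mul, map_mul, hx', hw] at h4
        have h5 : g * (j (Pi.mulSingle i (DihedralGroup.r 1)) * j (Pi.mulSingle i (rr true))) * g⁻¹ =
            g * (j (Pi.mulSingle i (rr true)) * j (Pi.mulSingle i (DihedralGroup.r 1))) * g⁻¹ := by
          calc _ = g * j (Pi.mulSingle i (DihedralGroup.r 1)) * g⁻¹ * (g * j (Pi.mulSingle i (rr true)) * g⁻¹) := by
                group
            _ = _ := by rw [h4]; group
        exact mul_left_cancel (mul_right_cancel h5)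
      have h6 := congrFun (hj h3) i
      rw [Pi.mul_apply, Pi.mul_apply, Pi.mulSingle_eq_same, Pi.mulSingle_eq_same] at h6
      revert h6; decide
    obtain ⟨l, hl1, hlz⟩ := h1
    obtain ⟨b, hb⟩ := exists_comm_ne hl1 hlz
    obtain ⟨y, hy⟩ := hsur (Pi.mulSingle l (rr b))
    exact ⟨l, zi_map hj hx'.symm hy hb⟩
  choose σ hσ using key
  refine ⟨σ, ?_, hσ⟩
  intro i i' hii
  have h1 : g * j (zi i) * g⁻¹ = g * j (zi i') * g⁻¹ := by rw [hσ, hσ, hii]
  exact zi_inj (hj (mul_left_cancel (mul_right_cancel h1)))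

end Hom

namespace KD

variable {P : Sylow 2 G} {C : Subgroup G} {j : (Fin n → D) →* G}

/-- elements normalising `J` lie in `C` -/
theorem mem_C (h : KD P C j) {g : G} (hg : ∀ f, g * j f * g⁻¹ ∈ j.range) : g ∈ C := by
  obtain ⟨σ, hσi, hσ⟩ := exists_perm h.inj hg
  apply h.cent
  have h1 := zI_map hσi (g := g) (j := j) (I := Finset.univ) (fun i _ => hσ i)
  have h2 : Finset.image σ Finset.univ = Finset.univ :=
    Finset.image_univ_of_surjective (Finite.injective_iff_surjective.1 hσi)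
  rw [h2, zI_univ] at h1
  exact h1

end KD

end Main

end Cfsg.Agent.H244.Kondo
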