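import Cfsg.Agent.H244.Kondo.JW

/-!
# The block group of `2 wr Sym (Fin n × Bool)` (helper244, for S3191)
-/

set_option autoImplicit false

namespace Cfsg.Agent.H244.Kondo

open Equiv Equiv.Perm Subgroup Cfsg.Agent.H306.Kon

theorem mul4_lt_pow {m : ℕ} (h : 2 ≤ m) : 4 * m < 4 ^ m := by
  induction m, h using Nat.le_induction with
  | base => decide
  | succ m hm ih => rw [pow_succ]; omega

theorem mul4_le_pow {m : ℕ} (h : 1 ≤ m) : 4 * m ≤ 4 ^ m := by
  rcases Nat.lt_or_ge m 2 with h1 | h1
  · have : m = 1 := by omega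
    subst this; decide
  · exact (mul4_lt_pow h1).le

/-- a group of order `4 ^ |I|` acting on `I` with "small" local groups acts trivially -/
theorem rank_lemma {A I : Type*} [Group A] [Finite A] [Fintype I] [MulAction A I] (K : I → Subgroup A)
    (hK1 : ∀ i, K i ≤ MulAction.stabilizer A i) (hK2 : ∀ (a : A) i, K (a • i) = K i)
    (hK3 : ∀ a, (∀ i, a ∈ K i) → a = 1) (hK4 : ∀ i, (K i).relIndex (MulAction.stabilizer A i) ≤ 4)
    (hA : Nat.card A = 4 ^ Fintype.card I) : ∀ (a : A) (i : I), a • i = i := by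
  classical
  by_contra hne
  push Not at hne
  obtain ⟨a0, i0, hai⟩ := hne
  let Ω := MulAction.orbitRel.Quotient A I
  have hf : Finite Ω := Quotient.finite _
  let _ : Fintype Ω := Fintype.ofFinite Ω
  have hinj : Function.Injective (fun (a : A) (ω : Ω) => (QuotientGroup.mk a : A ⧸ K ω.out)) := by
    intro a b hab
    have h1 : ∀ ω : Ω, a⁻¹ * b ∈ K ω.out := fun ω => QuotientGroup.eq.1 (congrFun hab ω)
    have h2 : ∀ i, a⁻¹ * b ∈ K i := by
      intro i
      have h3 : (Quotient.mk'' i : Ω).out ∈ MulAction.orbit A i := by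
        rw [← MulAction.orbitRel_apply]
        exact Quotient.exact (Quotient.out_eq (Quotient.mk'' i : Ω))
      obtain ⟨c, hc⟩ := h3
      have h4 := h1 (Quotient.mk'' i)
      rw [← hc] at h4
      exact (hK2 c i) ▸ h4
    exact inv_mul_eq_one.1 (hK3 _ h2)
  have hle : Nat.card A ≤ ∏ ω : Ω, (K ω.out).index := by
    have h1 := Nat.card_le_card_of_injective _ hinj
    rw [Nat.card_pi] at h1
    exact h1
  have hm : ∀ ω : Ω, (K ω.out).index ≤ 4 * Nat.card (MulAction.orbit A ω.out) := by
    intro ω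
    rw [← relIndex_mul_index (hK1 ω.out), MulAction.index_stabilizer]
    exact Nat.mul_le_mul_right _ (hK4 _)
  have hpos : ∀ ω : Ω, 1 ≤ Nat.card (MulAction.orbit A ω.out) := fun ω =>
    Nat.card_pos_iff.2 ⟨⟨⟨_, MulAction.mem_orbit_self _⟩⟩, inferInstance⟩
  have hsum : ∑ ω : Ω, Nat.card (MulAction.orbit A ω.out) = Fintype.card I := by
    rw [← Nat.card_eq_fintype_card (α := I), Nat.card_congr (MulAction.selfEquivSigmaOrbits A I), Nat.card_sigma]
  have hlt : ∏ ω : Ω, 4 * Nat.card (MulAction.orbit A ω.out) < ∏ ω : Ω, 4 ^ Nat.card (MulAction.orbit A ω.out) := by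
    refine Finset.prod_lt_prod (fun ω _ => by have := hpos ω; omega) (fun ω _ => mul4_le_pow (hpos ω))
      ⟨Quotient.mk'' i0, Finset.mem_univ _, mul4_lt_pow ?_⟩
    have h3 : (Quotient.mk'' i0 : Ω).out ∈ MulAction.orbit A i0 := by
      rw [← MulAction.orbitRel_apply]
      exact Quotient.exact (Quotient.out_eq (Quotient.mk'' i0 : Ω))
    rw [MulAction.orbit_eq_iff.2 h3]
    have h4 : ({i0, a0 • i0} : Set I) ⊆ MulAction.orbit A i0 := by
      rintro x (rfl | rfl)
      · exact MulAction.mem_orbit_self _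
      · exact MulAction.mem_orbit _ _
    have h5 := Set.ncard_le_ncard h4
    rw [Set.ncard_pair (Ne.symm hai)] at h5
    exact h5
  have := (hle.trans (Finset.prod_le_prod' fun ω _ => hm ω)).trans_lt hlt
  rw [Finset.prod_pow_eq_pow_sum, hsum, hA] at this
  exact lt_irrefl _ this

variable {n : ℕ}

/-- the block swap -/
def s0 (n : ℕ) : Perm (La n) := Equiv.prodCongrRight (fun _ => swap false true)

theorem s0_apply (i : Fin n) (b : Bool) : s0 n (i, b) = (i, !b) := by
  change (i, swap false true b) = _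
  cases b <;> simp

/-- the block group -/
def MW (n : ℕ) : Subgroup (Wr (La n)) := (centralizer {s0 n}).comap Wr.pr

theorem mem_MW {x : Wr (La n)} : x ∈ MW n ↔ ∀ i b, x.s (i, !b) = ((x.s (i, b)).1, !(x.s (i, b)).2) := by
  rw [MW, mem_comap, mem_centralizer_singleton_iff, Wr.pr_apply]
  constructor
  · intro h i b
    have h1 := DFunLike.congr_fun h (i, b)
    rw [Perm.mul_apply, Perm.mul_apply, s0_apply] at h1
    rw [h1]
    generalize x.s (i, b) = y
    rcases y with ⟨k, c⟩
    exact s0_apply k c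
  · intro h
    apply Equiv.ext
    rintro ⟨i, b⟩
    rw [Perm.mul_apply, Perm.mul_apply, s0_apply, h]
    generalize x.s (i, b) = y
    rcases y with ⟨k, c⟩
    exact (s0_apply k c).symm

theorem MW_fst {x : Wr (La n)} (hx : x ∈ MW n) (i : Fin n) (b c : Bool) : (x.s (i, b)).1 = (x.s (i, c)).1 := by
  rw [mem_MW] at hx
  have h1 : x.s (i, true) = _ := hx i false
  have h2 : (x.s (i, true)).1 = (x.s (i, false)).1 := by rw [h1]
  cases b <;> cases c
  · rfl
  · exact h2.symm
  · exact h2
  · rfl

theorem range_le_MW : (jW : (Fin n → D) →* Wr (La n)).range ≤ MW n := by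
  rintro _ ⟨f, rfl⟩
  rw [mem_MW]
  intro i b
  rw [jW_s, sW_apply, sW_apply]
  refine Prod.ext rfl ?_
  change (!b ^^ ds (f i)) = !(b ^^ ds (f i))
  generalize ds (f i) = e
  revert b e; decide

theorem range_conj_MW {x : Wr (La n)} (hx : x ∈ MW n) {y : Wr (La n)}
    (hy : y ∈ (jW : (Fin n → D) →* Wr (La n)).range) : x * y * x⁻¹ ∈ (jW : (Fin n → D) →* Wr (La n)).range := by
  rw [mem_range_jW] at hy ⊢
  intro p
  rw [Wr.mul_s, Wr.mul_s, Wr.inv_s, Perm.mul_apply, Perm.mul_apply]
  have h1 := hy (x.s⁻¹ p)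
  have h2 : ∀ q r : La n, q.1 = r.1 → (x.s q).1 = (x.s r).1 := by
    rintro ⟨i, b⟩ ⟨k, c⟩ h
    obtain rfl : i = k := h
    exact MW_fst hx _ _ _
  rw [h2 _ _ h1, ai]

theorem orderOf_s0 (hn : 1 ≤ n) : orderOf (s0 n) = 2 := by
  rw [orderOf_eq_prime_iff]
  refine ⟨?_, fun h => ?_⟩
  · rw [pow_two]
    apply Equiv.ext
    rintro ⟨i, b⟩
    rw [Perm.mul_apply, s0_apply, s0_apply, Bool.not_not]; rfl
  · have h1 := DFunLike.congr_fun h ((⟨0, by omega⟩ : Fin n), false)
    rw [s0_apply] at h1
    have h2 : (!false) = false := congrArg Prod.snd h1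
    exact absurd h2 (by decide)

theorem card_support_s0 : (s0 n).support.card = 2 * n := by
  have h1 : (s0 n).support = Finset.univ := by
    ext ⟨i, b⟩
    rw [mem_support, s0_apply]
    refine ⟨fun _ => Finset.mem_univ _, fun _ h => ?_⟩
    have h2 : (!b) = b := congrArg Prod.snd h
    cases b <;> exact absurd h2 (by decide)
  rw [h1, Finset.card_univ, Fintype.card_prod, Fintype.card_fin, Fintype.card_bool, mul_comm]

open Nat in
theorem odd_doubleFactorial (m : ℕ) : Odd (2 * m + 1)‼ := by
  induction m with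
  | zero => decide
  | succ m ih =>
    have : 2 * (m + 1) + 1 = (2 * m + 1) + 2 := by ring
    rw [this, doubleFactorial_add_two]
    exact Odd.mul (by rw [show 2 * m + 1 + 2 = 2 * (m + 1) + 1 by ring]; exact odd_two_mul_add_one _) ih

open Nat in
theorem MW_index (hn : 1 ≤ n) : Odd (MW n).index := by
  have hsurj : Function.Surjective (Wr.pr : Wr (La n) →* Perm (La n)) := fun s => ⟨Wr.sec s, rfl⟩
  rw [MW, index_comap_of_surjective _ hsurj]
  have h1 := (centralizer ({s0 n} : Set (Perm (La n)))).card_mul_index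
  have h2 := nat_card_centralizer (s0 n)
  rw [cycleType_of_order_two (orderOf_s0 hn) card_support_s0] at h2
  have h3 : Nat.card (centralizer ({s0 n} : Set (Perm (La n)))) = 2 ^ n * n ! := by
    rw [h2]
    have hn0 : n ≠ 0 := by omega
    simp only [Multiset.sum_replicate, Multiset.prod_replicate, Multiset.toFinset_replicate, hn0,
      if_false, Finset.prod_singleton, Multiset.count_replicate_self, Fintype.card_prod, Fintype.card_fin,
      Fintype.card_bool, smul_eq_mul, Nat.sub_self, Nat.factorial_zero, one_mul]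
  obtain ⟨m, rfl⟩ : ∃ m, n = m + 1 := ⟨n - 1, by omega⟩
  rw [h3, Nat.card_eq_fintype_card, Fintype.card_perm, Fintype.card_prod, Fintype.card_fin, Fintype.card_bool,
    show (m + 1) * 2 = (2 * m + 1) + 1 by ring, factorial_eq_mul_doubleFactorial (2 * m + 1),
    show 2 * m + 1 + 1 = 2 * (m + 1) by ring, doubleFactorial_two_mul] at h1
  have h4 := Nat.eq_of_mul_eq_mul_left (by positivity) h1
  rw [h4]
  exact odd_doubleFactorial m

section rank

variable (A : Subgroup (Wr (La n))) (hAM : A ≤ MW n)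

/-- the action on the blocks -/
@[reducible] def blkAct : MulAction A (Fin n) where
  smul a i := ((a : Wr (La n)).s (i, false)).1
  one_smul i := rfl
  mul_smul a b i := by
    change ((a : Wr (La n)).s ((b : Wr (La n)).s (i, false))).1 = ((a : Wr (La n)).s (((b : Wr (La n)).s (i, false)).1, false)).1
    generalize (b : Wr (La n)).s (i, false) = y
    rcases y with ⟨k, c⟩
    exact MW_fst (hAM a.2) _ _ _

/-- the kernel on a block -/
def Kb (i : Fin n) : Subgroup A where
  carrier := {k | ∀ b c, Wr.act (k : Wr (La n)) ((i, b), c) = ((i, b), c)}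
  one_mem' := fun b c => by simp
  mul_mem' := by
    intro x y hx hy b c
    rw [Subgroup.coe_mul, map_mul, Perm.mul_apply, hy, hx]
  inv_mem' := by
    intro x hx b c
    rw [Subgroup.coe_inv, map_inv, Perm.inv_eq_iff_eq, hx]

theorem mem_Kb {i : Fin n} {k : A} : k ∈ Kb A i ↔ ∀ b c, Wr.act (k : Wr (La n)) ((i, b), c) = ((i, b), c) := Iff.rfl

end rank

theorem sq_letter {x : Wr (La n)} (hx : x * x = 1) (p : La n) : x.s (x.s p) = p := by
  have h1 := congrArg Wr.s hx
  rw [Wr.mul_s, Wr.one_s] at h1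
  exact DFunLike.congr_fun h1 p

theorem sq_vec {x : Wr (La n)} (hx : x * x = 1) (p : La n) : x.v p = x.v (x.s p) := by
  have h1 := congrArg (fun y : Wr (La n) => y.v p) hx
  simp only [Wr.mul_v, Wr.one_v] at h1
  have h2 : x.s⁻¹ p = x.s p := by rw [Perm.inv_eq_iff_eq, sq_letter hx]
  rw [h2] at h1
  generalize x.v p = a at *
  generalize x.v (x.s p) = b at *
  revert h1; revert a b; decide

theorem card_six : Nat.card {t : Bool × ZMod 2 × ZMod 2 // t.1 = true → t.2.1 = t.2.2} = 6 := by
  rw [Nat.card_eq_fintype_card]; decide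

/-- the local index is at most 4 -/
theorem relIndex_le {A : Subgroup (Wr (La n))} (hAM : A ≤ MW n) (hA : ∀ a ∈ A, a * a = 1) {N : ℕ}
    (hc : Nat.card A = 2 ^ N) (S : Subgroup A) (i : Fin n) (hS : ∀ a ∈ S, ((a : Wr (La n)).s (i, false)).1 = i) :
    (Kb A i).relIndex S ≤ 4 := by
  have hfin : Finite A := Nat.finite_of_card_ne_zero (by rw [hc]; positivity)
  let φ : S → {t : Bool × ZMod 2 × ZMod 2 // t.1 = true → t.2.1 = t.2.2} := fun a =>
    ⟨((((a : A) : Wr (La n)).s (i, false)).2, ((a : A) : Wr (La n)).v (i, false), ((a : A) : Wr (La n)).v (i, true)), by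
      intro h
      change ((a : A) : Wr (La n)).v (i, false) = ((a : A) : Wr (La n)).v (i, true)
      rw [sq_vec (hA _ (a : A).2) (i, false)]
      congr 1
      exact Prod.ext (hS _ a.2) h⟩
  have hφ : ∀ a b : S, φ a = φ b → a⁻¹ * b ∈ (Kb A i).subgroupOf S := by
    intro a b h
    have h1 := congrArg Subtype.val h
    have h2 : (((a : A) : Wr (La n)).s (i, false)).2 = (((b : A) : Wr (La n)).s (i, false)).2 := congrArg Prod.fst h1
    have h3 : ((a : A) : Wr (La n)).v (i, false) = ((b : A) : Wr (La n)).v (i, false) :=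
      congrArg (fun t => t.2.1) h1
    have h4 : ((a : A) : Wr (La n)).v (i, true) = ((b : A) : Wr (La n)).v (i, true) :=
      congrArg (fun t => t.2.2) h1
    have ha := hS _ a.2
    have hb := hS _ b.2
    have ha' := mem_MW.1 (hAM (a : A).2) i false
    have hb' := mem_MW.1 (hAM (b : A).2) i false
    have h5 : ∀ c : Bool, ((a : A) : Wr (La n)).s (i, c) = ((b : A) : Wr (La n)).s (i, c) := by
      have h6 : ((a : A) : Wr (La n)).s (i, false) = ((b : A) : Wr (La n)).s (i, false) := Prod.ext (ha.trans hb.symm) h2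
      intro c
      cases c
      · exact h6
      · change ((a : A) : Wr (La n)).s (i, !false) = ((b : A) : Wr (La n)).s (i, !false)
        rw [ha', hb', h6]
    have h7 : ∀ c : Bool, (((b : A) : Wr (La n)).s (i, c)).1 = i := by
      intro c
      rw [MW_fst (hAM (b : A).2) i c false, hb]
    have h8 : ∀ c : Bool, ((a : A) : Wr (La n)).v (i, c) = ((b : A) : Wr (La n)).v (i, c) := by
      intro c
      cases c
      · exact h3
      · exact h4
    rw [mem_subgroupOf, mem_Kb]
    intro c d
    change Wr.act (((a : A) : Wr (La n))⁻¹ * ((b : A) : Wr (La n))) ((i, c), d) = _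
    rw [map_mul, map_inv, Perm.mul_apply, Perm.inv_eq_iff_eq, Wr.act_apply, Wr.act_apply, h5]
    have h9 : ((b : A) : Wr (La n)).s (i, c) = (i, (((b : A) : Wr (La n)).s (i, c)).2) := Prod.ext (h7 c) rfl
    rw [h9, h8]
  have h6 : (Kb A i).relIndex S ≤ 6 := by
    rw [relIndex, index, ← card_six]
    refine Nat.card_le_card_of_injective (fun q => φ q.out) ?_
    intro q r h
    have h1 := hφ _ _ h
    rw [← QuotientGroup.eq] at h1
    rwa [QuotientGroup.out_eq', QuotientGroup.out_eq'] at h1
  have hd : (Kb A i).relIndex S ∣ 2 ^ N := by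
    rw [← hc]
    exact (relIndex_dvd_card _ _).trans (card_subgroup_dvd_card S)
  obtain ⟨k, -, hk⟩ := (Nat.dvd_prime_pow Nat.prime_two).1 hd
  rw [hk] at h6 ⊢
  have : k < 3 := by
    by_contra h
    have : 2 ^ 3 ≤ 2 ^ k := Nat.pow_le_pow_right (by norm_num) (by omega)
    omega
  calc 2 ^ k ≤ 2 ^ 2 := Nat.pow_le_pow_right (by norm_num) (by omega)
    _ = 4 := rfl

/-- **Elementary abelian subgroups of order `4 ^ n` of the block group preserve the blocks.** -/
theorem rank_W {A : Subgroup (Wr (La n))} (hAM : A ≤ MW n) (hA : ∀ a ∈ A, a * a = 1) (hc : Nat.card A = 4 ^ n) :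
    A ≤ (jW : (Fin n → D) →* Wr (La n)).range := by
  let _ := blkAct A hAM
  have hsm : ∀ (a : A) (i : Fin n), a • i = ((a : Wr (La n)).s (i, false)).1 := fun _ _ => rfl
  have hcomm : ∀ a ∈ A, ∀ b ∈ A, a * b = b * a := by
    intro a ha b hb
    have h1 := hA (a * b) (A.mul_mem ha hb)
    have h2 := hA a ha
    have h3 := hA b hb
    calc a * b = a * b * ((b * a) * (b * a)) := by rw [hA (b * a) (A.mul_mem hb ha), mul_one]
      _ = a * (b * b) * a * (b * a) := by group
      _ = b * a := by rw [h3, mul_one, h2, one_mul]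
  have hfin : Finite A := Nat.finite_of_card_ne_zero (by rw [hc]; positivity)
  have hle : ∀ (a : A) (i : Fin n), Kb A i ≤ Kb A (a • i) := by
    intro a i k hk
    rw [mem_Kb] at hk ⊢
    intro b c
    have h1 : ∃ (b' : Bool) (c' : ZMod 2), Wr.act (a : Wr (La n)) ((i, b'), c') = ((a • i, b), c) := by
      have h2 : ∃ b', (a : Wr (La n)).s (i, b') = (a • i, b) := by
        have h3 := mem_MW.1 (hAM a.2) i false
        by_cases h4 : ((a : Wr (La n)).s (i, false)).2 = b
        · exact ⟨false, Prod.ext rfl h4⟩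
        · refine ⟨!false, ?_⟩
          rw [h3]
          refine Prod.ext rfl ?_
          have h5 : ∀ e b : Bool, e ≠ b → (!e) = b := by decide
          exact h5 _ _ h4
      obtain ⟨b', hb'⟩ := h2
      refine ⟨b', c + (a : Wr (La n)).v ((a : Wr (La n)).s (i, b')), ?_⟩
      rw [Wr.act_apply, add_assoc, Wr.add_self, add_zero, hb']
    obtain ⟨b', c', h2⟩ := h1
    rw [← h2, ← Perm.mul_apply, ← map_mul, hcomm _ k.2 _ a.2, map_mul, Perm.mul_apply, hk]
  have key := rank_lemma (A := A) (I := Fin n) (Kb A) ?_ ?_ ?_ ?_ (by rw [hc, Fintype.card_fin])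
  · intro a ha
    rw [mem_range_jW]
    rintro ⟨i, b⟩
    rw [MW_fst (hAM ha) i b false]
    exact key ⟨a, ha⟩ i
  · intro i k hk
    rw [MulAction.mem_stabilizer_iff, hsm]
    have h1 := hk false 0
    rw [Wr.act_apply] at h1
    exact congrArg (fun t => t.1.1) h1
  · intro a i
    refine le_antisymm ?_ (hle a i)
    have h1 := hle a⁻¹ (a • i)
    rwa [inv_smul_smul] at h1
  · intro a ha
    apply Subtype.ext
    apply Wr.act_injective
    apply Equiv.ext
    rintro ⟨⟨i, b⟩, c⟩
    rw [ha i b c]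
    simp
  · intro i
    refine relIndex_le hAM hA (N := 2 * n) (by rw [hc, pow_mul]; rfl) _ i ?_
    intro a ha
    exact ha

/-- the standard involution with `k` swaps -/
def tk (n k : ℕ) : Perm (La n) := Equiv.prodCongrRight (fun i => if i.val < k then swap false true else 1)

theorem tk_apply (k : ℕ) (i : Fin n) (b : Bool) : tk n k (i, b) = (i, if i.val < k then !b else b) := by
  change (i, (if i.val < k then swap false true else 1 : Perm Bool) b) = _
  refine Prod.ext rfl ?_
  change (if i.val < k then swap false true else 1 : Perm Bool) b = _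
  split_ifs
  · cases b <;> simp
  · rfl

theorem tk_support {k : ℕ} (hk : k ≤ n) : (tk n k).support.card = 2 * k := by
  have h1 : (tk n k).support = (Finset.univ.filter (fun i : Fin n => i.val < k)) ×ˢ Finset.univ := by
    ext ⟨i, b⟩
    rw [mem_support, tk_apply, Finset.mem_product, Finset.mem_filter]
    by_cases h : i.val < k
    · simp only [h, if_true, Finset.mem_univ, and_true, iff_true]
      intro h2
      have h3 : (!b) = b := congrArg Prod.snd h2
      cases b <;> exact absurd h3 (by decide)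
    · simp [h]
  rw [h1, Finset.card_product, Fin.card_filter_val_lt, Finset.card_univ, Fintype.card_bool, min_eq_right hk, mul_comm]

theorem tk_sq (k : ℕ) : tk n k * tk n k = 1 := by
  apply Equiv.ext
  rintro ⟨i, b⟩
  rw [Perm.mul_apply, tk_apply, tk_apply]
  by_cases h : i.val < k
  · simp [h]
  · simp [h]

/-- **Involutions of `W` are conjugate to block preserving ones.** -/
theorem inv_W {x : Wr (La n)} (hx : x * x = 1) : ∃ g, g * x * g⁻¹ ∈ (jW : (Fin n → D) →* Wr (La n)).range := by
  by_cases hs : x.s = 1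
  · refine ⟨1, ?_⟩
    rw [one_mul, inv_one, mul_one, mem_range_jW]
    intro p
    rw [hs]; rfl
  have ho : orderOf x.s = 2 := by
    rw [orderOf_eq_prime_iff]
    refine ⟨?_, hs⟩
    rw [pow_two]
    exact congrArg Wr.s hx
  obtain ⟨m, hm⟩ := cycleType_prime_order (σ := x.s) (by rw [ho]; exact Nat.prime_two)
  rw [ho] at hm
  have h1 := sum_cycleType x.s
  rw [hm, Multiset.sum_replicate, smul_eq_mul] at h1
  have h2 : x.s.support.card ≤ n * 2 := by
    refine (Finset.card_le_univ _).trans ?_
    rw [Fintype.card_prod, Fintype.card_fin, Fintype.card_bool]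
  have hk : m + 1 ≤ n := by omega
  have ht : orderOf (tk n (m + 1)) = 2 := by
    rw [orderOf_eq_prime_iff]
    refine ⟨by rw [pow_two, tk_sq], fun h => ?_⟩
    have h3 := tk_support hk
    rw [h] at h3
    simp at h3
  obtain ⟨f, hf⟩ := exists_equiv_conj (Equiv.refl (La n)) (σ := x.s) (τ := tk n (m + 1)) (k := m + 1) ho ht (by omega)
    (tk_support hk)
  refine ⟨Wr.sec f, ?_⟩
  rw [mem_range_jW]
  intro p
  rw [Wr.mul_s, Wr.mul_s, Wr.inv_s, Wr.sec_s, Perm.mul_apply, Perm.mul_apply]
  have h3 : f (x.s (f⁻¹ p)) = tk n (m + 1) p := by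
    rw [hf]
    congr 1
    exact f.apply_symm_apply p
  rw [h3]
  rcases p with ⟨i, b⟩
  rw [tk_apply]

end Cfsg.Agent.H244.Kondo
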