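import Mathlib

/-!
# Powers of the dihedral group of order 8 (helper244, for S3191)

`D = DihedralGroup 4`, `chi b : D →* ℤˣ` (`b : Bool`), `RD b = ker (chi (!b))` are the two four-subgroups, `z = r 2` the centre.
`Rm β ≤ Fin n → D` is the product of the `RD (β i)`.
-/

set_option autoImplicit false

namespace Cfsg.Agent.H244.Kondo

open Subgroup

/-- the dihedral group of order 8 -/
abbrev D : Type := DihedralGroup 4

/-- the central involution -/
def z : D := DihedralGroup.r 2

/-- values of the two linear characters -/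
def chiFun (b : Bool) : D → ℤˣ
  | DihedralGroup.r i => if i.val % 2 = 0 then 1 else -1
  | DihedralGroup.sr i => if (i.val % 2 = 0) = (b = true) then -1 else 1

/-- the two characters: `chi b` is non-trivial on `RD b` and trivial on `RD (!b)` -/
def chi (b : Bool) : D →* ℤˣ where
  toFun := chiFun b
  map_one' := by revert b; decide
  map_mul' := by revert b; decide

/-- the non central involution of `RD b` -/
def rr (b : Bool) : D := if b then DihedralGroup.sr 0 else DihedralGroup.sr 1

theorem z_ne_one : z ≠ 1 := by decide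

theorem zz : z * z = 1 := by decide

theorem chi_z (b : Bool) : chi b z = 1 := by revert b; decide

theorem chi_rr (b : Bool) : chi b (rr b) = -1 := by revert b; decide

theorem chi_not_rr (b : Bool) : chi (!b) (rr b) = 1 := by revert b; decide

theorem rr_mul_rr (b : Bool) : rr b * rr b = 1 := by revert b; decide

theorem eq_one_or_z {x : D} (h1 : chi true x = 1) (h2 : chi false x = 1) : x = 1 ∨ x = z := by
  revert x; decide

theorem eq_one_or_z' (b : Bool) {x : D} (h1 : chi b x = 1) (h2 : chi (!b) x = 1) : x = 1 ∨ x = z := by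
  revert b x; decide

theorem comm_eq (x y : D) : x * y * x⁻¹ * y⁻¹ = 1 ∨ x * y * x⁻¹ * y⁻¹ = z := by
  revert x y; decide

theorem z_comm (x : D) : x * z = z * x := by revert x; decide

/-- elements outside `RD b` do not commute with the non central elements of `RD b` -/
theorem comm_ne_one (b : Bool) {x y : D} (hx : chi (!b) x ≠ 1) (hy : chi (!b) y = 1) (hy' : chi b y ≠ 1) :
    x * y * x⁻¹ * y⁻¹ = z := by
  revert b x y; decide

theorem comm_eq_one (b : Bool) {x y : D} (hx : chi (!b) x = 1) (hy : chi (!b) y = 1) :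
    x * y = y * x := by
  revert b x y; decide

theorem sq_eq_one (b : Bool) {x : D} (hx : chi (!b) x = 1) : x * x = 1 := by
  revert b x; decide

theorem mem_of_sq {x : D} (hx : x * x = 1) : chi true x = 1 ∨ chi false x = 1 := by
  revert x; decide

theorem mem_of_sq' (b : Bool) {x : D} (hx : x * x = 1) (h : chi (!b) x ≠ 1) : chi b x = 1 := by
  revert b x; decide

/-- a non central element does not commute with one of `rr true`, `rr false` -/
theorem exists_comm_ne {x : D} (hx : x ≠ 1) (hx' : x ≠ z) : ∃ b, x * rr b * x⁻¹ * (rr b)⁻¹ = z := by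
  revert x; decide

theorem exists_mul (x : D) : ∃ e f : D, chi false e = 1 ∧ chi true f = 1 ∧ x = e * f := by
  revert x; decide

theorem rr_conj (b : Bool) {x : D} (hx : chi (!b) x = 1) (hx' : chi b x ≠ 1) :
    rr (!b) * x * (rr (!b))⁻¹ = x * z := by
  revert b x; decide

variable {n : ℕ}

/-- products of the four-groups `RD (β i)` -/
def Rm (β : Fin n → Bool) : Subgroup (Fin n → D) where
  carrier := {f | ∀ i, chi (!(β i)) (f i) = 1}
  one_mem' := fun i => by rw [Pi.one_apply, map_one]
  mul_mem' := by
    intro f g hf hg i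
    rw [Pi.mul_apply, map_mul, hf i, hg i, one_mul]
  inv_mem' := by
    intro f hf i
    rw [Pi.inv_apply, map_inv, hf i, inv_one]

theorem mem_Rm {β : Fin n → Bool} {f : Fin n → D} : f ∈ Rm β ↔ ∀ i, chi (!(β i)) (f i) = 1 := Iff.rfl

theorem card_RD (b : Bool) : Fintype.card {x : D // chi (!b) x = 1} = 4 := by revert b; decide

theorem card_Rm (β : Fin n → Bool) : Nat.card (Rm β) = 4 ^ n := by
  have e : (Rm β) ≃ ((i : Fin n) → {x : D // chi (!(β i)) x = 1}) :=
    { toFun := fun f i => ⟨f.1 i, f.2 i⟩
      invFun := fun f => ⟨fun i => (f i).1, fun i => (f i).2⟩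
      left_inv := fun f => rfl
      right_inv := fun f => rfl }
  rw [Nat.card_congr e, Nat.card_eq_fintype_card, Fintype.card_pi]
  simp only [card_RD, Finset.prod_const, Finset.card_univ, Fintype.card_fin]

theorem Rm_comm {β : Fin n → Bool} {f g : Fin n → D} (hf : f ∈ Rm β) (hg : g ∈ Rm β) : f * g = g * f := by
  funext i
  exact comm_eq_one (β i) (hf i) (hg i)

theorem Rm_sq {β : Fin n → Bool} {f : Fin n → D} (hf : f ∈ Rm β) : f * f = 1 := by
  funext i
  exact sq_eq_one (β i) (hf i)

/-- subgroups of exponent two of `Fin n → D` have order at most `4 ^ n` -/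
theorem card_le (A : Subgroup (Fin n → D)) (hA : ∀ a ∈ A, a * a = 1) : Nat.card A ≤ 4 ^ n := by
  classical
  have h4 : ∀ i : Fin n, Nat.card (A.map (Pi.evalMonoidHom (fun _ => D) i)) ≤ 4 := by
    intro i
    set B := A.map (Pi.evalMonoidHom (fun _ => D) i) with hB
    have hB2 : ∀ b ∈ B, b * b = 1 := by
      rintro _ ⟨a, ha, rfl⟩
      exact congrFun (hA a ha) i
    have h8 : Nat.card D = 8 := by rw [Nat.card_eq_fintype_card]; decide
    have hd : Nat.card B ∣ 8 := h8 ▸ card_subgroup_dvd_card B
    have hne : Nat.card B ≠ 8 := by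
      intro h
      have ht : B = ⊤ := (card_eq_iff_eq_top B).1 (h.trans h8.symm)
      have := hB2 (DihedralGroup.r 1) (by rw [ht]; exact mem_top _)
      revert this; decide
    have hle := Nat.le_of_dvd (by norm_num) hd
    have hpos : 0 < Nat.card B := Nat.card_pos
    interval_cases (Nat.card B) <;> omega
  have h1 : Nat.card A ≤ Nat.card ((i : Fin n) → A.map (Pi.evalMonoidHom (fun _ => D) i)) := by
    refine Nat.card_le_card_of_injective (fun a i => ⟨a.1 i, ⟨a.1, a.2, rfl⟩⟩) ?_
    intro a b hab
    apply Subtype.ext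
    funext i
    exact congrArg Subtype.val (congrFun hab i)
  refine h1.trans ?_
  rw [Nat.card_pi]
  calc ∏ i, Nat.card (A.map (Pi.evalMonoidHom (fun _ => D) i)) ≤ ∏ _i : Fin n, 4 :=
        Finset.prod_le_prod' (fun i _ => h4 i)
    _ = 4 ^ n := by rw [Finset.prod_const, Finset.card_univ, Fintype.card_fin]

end Cfsg.Agent.H244.Kondo
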