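import Cfsg.Agent.H244.Kondo.Red
import Cfsg.Agent.H244.Kondo.Blk
import Cfsg.Agent.H244.Kondo.Lift

/-!
# Classes of involutions from a 2-central involution with centralizer `O(C).(2 wr Sym(2n))` (helper244, for S3191)
-/

set_option autoImplicit false

namespace Cfsg.Agent.H244.Kondo

open Subgroup Cfsg.Agent.H306.Kon

variable {G : Type*} [Group G] [Finite G] {n : ℕ}

theorem isPGroup_pow_D : IsPGroup 2 (Fin n → D) := by
  apply IsPGroup.of_card (n := 3 * n)
  rw [Nat.card_eq_fintype_card, Fintype.card_fun, Fintype.card_fin, pow_mul]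
  congr 1

theorem exists_KD (hn : 1 ≤ n) {t : G} (S : Sylow 2 G) (hS : (S : Subgroup G) ≤ centralizer {t}) (htS : t ∈ (S : Subgroup G))
    (π : centralizer ({t} : Set G) →* Wr (La n)) (hπ : Function.Surjective π) (hker : Odd (Nat.card π.ker))
    (ht : ∀ h, π ⟨t, h⟩ = Wr.z (La n)) :
    ∃ (P : Sylow 2 G) (j : (Fin n → D) →* G), KD P (centralizer {t}) j := by
  have : Fact (Nat.Prime 2) := ⟨Nat.prime_two⟩
  obtain ⟨P0, j0, h1, h2, h3⟩ := exists_lift hπ hker (jW_injective (n := n)) isPGroup_pow_D (MW_index hn)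
    (fun x hx y hy => range_conj_MW hx hy)
  have hp : IsPGroup 2 ((P0 : Subgroup (centralizer ({t} : Set G))).map (centralizer ({t} : Set G)).subtype) := P0.2.map _
  have hidx : ¬ 2 ∣ ((P0 : Subgroup (centralizer ({t} : Set G))).map (centralizer ({t} : Set G)).subtype).index := by
    rw [index_map_subtype]
    refine Nat.Prime.not_dvd_mul Nat.prime_two P0.not_dvd_index ?_
    intro h
    exact S.not_dvd_index (h.trans (index_dvd_of_le hS))
  have hPC : ((hp.toSylow hidx : Sylow 2 G) : Subgroup G) ≤ centralizer {t} := by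
    rw [IsPGroup.toSylow_coe]
    exact map_subtype_le _
  have hPmem : ∀ x : centralizer ({t} : Set G), (x : G) ∈ ((hp.toSylow hidx : Sylow 2 G) : Subgroup G) ↔ x ∈ (P0 : Subgroup _) := by
    intro x
    rw [IsPGroup.toSylow_coe]
    constructor
    · rintro ⟨y, hy, hyx⟩
      rwa [← Subtype.ext hyx]
    · intro hx
      exact ⟨x, hx, rfl⟩
  -- elements of `P0` are determined by their image
  have huniq : ∀ x ∈ (P0 : Subgroup (centralizer ({t} : Set G))), ∀ f, π x = jW f → x = j0 f := by
    intro x hx f hf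
    have h4 := eq_one_of_odd hker P0.2 ((P0 : Subgroup (centralizer ({t} : Set G))).mul_mem hx
      ((P0 : Subgroup (centralizer ({t} : Set G))).inv_mem (h2 f))) (by rw [map_mul, map_inv, h1, hf, mul_inv_cancel])
    exact mul_inv_eq_one.1 h4
  have htC : t ∈ centralizer ({t} : Set G) := hS htS
  have htz : j0 (fun _ => z) = ⟨t, htC⟩ := by
    -- `t` is in every Sylow 2-subgroup of its centralizer
    have h4 : (⟨t, htC⟩ : centralizer ({t} : Set G)) ∈ (P0 : Subgroup (centralizer ({t} : Set G))) := by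
      obtain ⟨k, hk⟩ := S.2 ⟨t, htS⟩
      have h5 : t ^ 2 ^ k = 1 := congrArg Subtype.val hk
      have h6 : IsPGroup 2 (zpowers (⟨t, htC⟩ : centralizer ({t} : Set G))) := by
        have h7 : orderOf (⟨t, htC⟩ : centralizer ({t} : Set G)) ∣ 2 ^ k := by
          apply orderOf_dvd_of_pow_eq_one
          exact Subtype.ext h5
        obtain ⟨m, -, hm⟩ := (Nat.dvd_prime_pow Nat.prime_two).1 h7
        exact IsPGroup.of_card (n := m) (by rw [Nat.card_zpowers, hm])
      have h8 : (zpowers (⟨t, htC⟩ : centralizer ({t} : Set G))).Normal := by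
        constructor
        rintro _ ⟨m, rfl⟩ g
        refine ⟨m, ?_⟩
        have h9 : Commute g (⟨t, htC⟩ : centralizer ({t} : Set G)) :=
          Subtype.ext (mem_centralizer_singleton_iff.1 g.2)
        change _ = g * (⟨t, htC⟩ : centralizer ({t} : Set G)) ^ m * g⁻¹
        rw [(h9.zpow_right m).eq, mul_inv_cancel_right]
      exact (h6.le_sylow_of_normal P0) (mem_zpowers _)
    exact (huniq _ h4 _ (by rw [ht, jW_z])).symm
  have hconj : ∀ c : centralizer ({t} : Set G), (∀ f, π c * jW f * (π c)⁻¹ ∈ (jW : (Fin n → D) →* Wr (La n)).range) →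
      ∃ k, π k = 1 ∧ ∀ f, (k * c) * j0 f * (k * c)⁻¹ ∈ j0.range := by
    intro c hc
    have hR : IsPGroup 2 (j0.range.map (MulAut.conj c).toMonoidHom) :=
      ((isPGroup_pow_D (n := n)).of_surjective j0.rangeRestrict j0.rangeRestrict_surjective).map _
    obtain ⟨k, hk1, hk2⟩ := exists_kernel_conj hker (jW_injective (n := n)) isPGroup_pow_D h1 hR (by
      rintro _ ⟨_, ⟨f, rfl⟩, rfl⟩
      change π (c * j0 f * c⁻¹) ∈ _
      rw [map_mul, map_mul, map_inv, h1]
      exact hc f)
    refine ⟨k, hk1, fun f => ?_⟩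
    have h4 := hk2 (c * j0 f * c⁻¹) ⟨j0 f, ⟨f, rfl⟩, rfl⟩
    have h5 : k * c * j0 f * (k * c)⁻¹ = k * (c * j0 f * c⁻¹) * k⁻¹ := by group
    rwa [h5]
  refine ⟨hp.toSylow hidx, (centralizer ({t} : Set G)).subtype.comp j0, ?_⟩
  exact
    { inj := by
        intro f g h
        apply jW_injective
        rw [← h1, ← h1]
        congr 1
        exact Subtype.ext h
      le := fun f => (hPmem _).2 (h2 f)
      leC := hPC
      cent := by
        intro g hg
        rw [mem_centralizer_singleton_iff]
        have h4 : ((centralizer ({t} : Set G)).subtype.comp j0) (fun _ => z) = t := congrArg Subtype.val htz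
        rw [h4, mul_inv_eq_iff_eq_mul] at hg
        exact hg
      rank := by
        intro A hAP hA hc
        have hAC : A ≤ centralizer {t} := hAP.trans hPC
        have hinj : Function.Injective (π.comp (inclusion hAC)) := by
          rw [injective_iff_map_eq_one]
          intro a ha
          have h4 := eq_one_of_odd hker P0.2 (x := inclusion hAC a) ((hPmem _).1 (hAP a.2)) ha
          have h5 : ((inclusion hAC a : centralizer ({t} : Set G)) : G) = ((1 : centralizer ({t} : Set G)) : G) :=
            congrArg Subtype.val h4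
          exact Subtype.ext h5
        have h4 := rank_W (A := (π.comp (inclusion hAC)).range) (n := n) ?_ ?_ ?_
        · intro a ha
          obtain ⟨f, hf⟩ := h4 ⟨⟨a, ha⟩, rfl⟩
          refine ⟨f, ?_⟩
          have h5 := huniq (inclusion hAC ⟨a, ha⟩) ((hPmem _).1 (hAP ha)) f hf.symm
          exact (congrArg Subtype.val h5).symm
        · rintro _ ⟨a, rfl⟩
          exact h3 _ ((hPmem _).1 (hAP a.2))
        · rintro _ ⟨a, rfl⟩
          rw [← map_mul, show a * a = 1 from Subtype.ext (hA _ a.2), map_one]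
        · rw [← hc]
          exact (Nat.card_congr (MonoidHom.ofInjective hinj).toEquiv).symm
      norm := by
        intro g hg hn f hf
        obtain ⟨f', hf'⟩ := hn f
        refine ⟨f', ?_, hf'⟩
        have h4 : j0 f' = ⟨g, hg⟩ * j0 f * ⟨g, hg⟩⁻¹ := Subtype.ext hf'
        have h5 := congrArg π h4
        rw [map_mul, map_mul, map_inv, h1, h1] at h5
        exact norm_Rm _ h5.symm hf
      perm := by
        intro σ
        obtain ⟨c, hc⟩ := hπ (pW σ)
        have h4 : ∀ f, π c * jW f * (π c)⁻¹ = jW (fun i => f (σ i)) := fun f => by rw [hc]; exact pW_conj σ f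
        obtain ⟨k, hk1, hk2⟩ := hconj c (fun f => by rw [h4]; exact ⟨_, rfl⟩)
        refine ⟨((k * c : centralizer ({t} : Set G)) : G), (k * c).2, fun f => ?_⟩
        obtain ⟨f', hf'⟩ := hk2 f
        have h5 := congrArg π hf'
        rw [map_mul, map_mul, map_inv, map_mul, h1, h1, hk1, one_mul, h4] at h5
        have h6 := jW_injective h5
        rw [h6] at hf'
        exact (congrArg Subtype.val hf').symm
      ch := by
        intro b
        obtain ⟨χ, hχ⟩ := exists_chi (n := n) b
        refine ⟨χ.comp π, fun f => ?_⟩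
        rw [← hχ, ← h1]
        rfl
      inv := by
        intro x hx hxx
        have hxC := hPC hx
        obtain ⟨q, hq⟩ := inv_W (x := π ⟨x, hxC⟩) (by rw [← map_mul, show (⟨x, hxC⟩ : centralizer ({t} : Set G)) * ⟨x, hxC⟩ = 1 from Subtype.ext hxx, map_one])
        obtain ⟨c, rfl⟩ := hπ q
        have h4 : IsPGroup 2 (zpowers (c * ⟨x, hxC⟩ * c⁻¹)) := by
          have h7 : orderOf (c * ⟨x, hxC⟩ * c⁻¹) ∣ 2 ^ 1 := by
            apply orderOf_dvd_of_pow_eq_one
            rw [pow_one, pow_two]
            calc c * ⟨x, hxC⟩ * c⁻¹ * (c * ⟨x, hxC⟩ * c⁻¹) = c * (⟨x, hxC⟩ * ⟨x, hxC⟩) * c⁻¹ := by group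
              _ = 1 := by
                rw [show (⟨x, hxC⟩ : centralizer ({t} : Set G)) * ⟨x, hxC⟩ = 1 from Subtype.ext hxx]; group
          obtain ⟨m, -, hm⟩ := (Nat.dvd_prime_pow Nat.prime_two).1 h7
          exact IsPGroup.of_card (n := m) (by rw [Nat.card_zpowers, hm])
        obtain ⟨k, hk1, hk2⟩ := exists_kernel_conj hker (jW_injective (n := n)) isPGroup_pow_D h1 h4 (by
          rintro _ ⟨m, rfl⟩
          change π ((c * ⟨x, hxC⟩ * c⁻¹) ^ m) ∈ _
          rw [map_zpow, map_mul, map_mul, map_inv]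
          exact Subgroup.zpow_mem _ hq m)
        obtain ⟨f, hf⟩ := hk2 _ (mem_zpowers _)
        refine ⟨((k * c : centralizer ({t} : Set G)) : G), f, ?_⟩
        have h5 := congrArg Subtype.val hf
        change ((j0 f : centralizer ({t} : Set G)) : G) = _
        rw [h5]
        change (k : G) * ((c : G) * x * (c : G)⁻¹) * (k : G)⁻¹ = (k : G) * (c : G) * x * ((k : G) * (c : G))⁻¹
        group }

/-- **Classes of involutions.** -/
theorem main (hn : 1 ≤ n) (hG : ∀ H : Subgroup G, H.index ≠ 2) {t : G} (S : Sylow 2 G)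
    (hS : (S : Subgroup G) ≤ centralizer {t}) (htS : t ∈ (S : Subgroup G))
    (π : centralizer ({t} : Set G) →* Wr (La n)) (hπ : Function.Surjective π) (hker : Odd (Nat.card π.ker))
    (ht : ∀ h, π ⟨t, h⟩ = Wr.z (La n)) :
    Nat.card {c : ConjClasses G // ∃ x ∈ c.carrier, orderOf x = 2} = n := by
  obtain ⟨P, j, h⟩ := exists_KD hn S hS htS π hπ hker ht
  exact h.card_classes hG

end Cfsg.Agent.H244.Kondo
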