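import Cfsg.Agent.H306.Kon.Alt
import Cfsg.Agent.H244.Kondo.Dih

/-!
# `D8 ^ n` in `2 wr Sym (Fin n × Bool)` (helper244, for S3191)
-/

set_option autoImplicit false

namespace Cfsg.Agent.H244.Kondo

open Equiv Equiv.Perm Subgroup Cfsg.Agent.H306.Kon

/-- the letters -/
abbrev La (n : ℕ) : Type := Fin n × Bool

/-- does the element of `D` move the letters? -/
def ds : D → Bool
  | DihedralGroup.r i => i.val % 2 == 1
  | DihedralGroup.sr i => i.val % 2 == 1

/-- the vector of an element of `D` -/
def dv : D → Bool → ZMod 2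
  | DihedralGroup.r i, b => if b then (if i.val = 1 ∨ i.val = 2 then 1 else 0) else (if i.val = 2 ∨ i.val = 3 then 1 else 0)
  | DihedralGroup.sr i, b => if b then (if i.val = 0 ∨ i.val = 3 then 1 else 0) else (if i.val = 2 ∨ i.val = 3 then 1 else 0)

theorem ds_one : ds 1 = false := by decide
theorem dv_one (b : Bool) : dv 1 b = 0 := by revert b; decide
theorem ds_mul (x y : D) : ds (x * y) = xor (ds x) (ds y) := by revert x y; decide
theorem dv_mul (x y : D) (b : Bool) : dv (x * y) b = dv x b + dv y (xor b (ds x)) := by revert x y b; decide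
theorem dv_inj {x y : D} (h1 : ∀ b, dv x b = dv y b) (h2 : ds x = ds y) : x = y := by
  revert x y; decide
theorem dv_surj (a b : ZMod 2) (e : Bool) : ∃ x, dv x false = a ∧ dv x true = b ∧ ds x = e := by
  revert a b e; decide
theorem dv_z (b : Bool) : dv z b = 1 := by revert b; decide
theorem ds_z : ds z = false := by decide
theorem ds_eq_false {x : D} : ds x = false ↔ chi false x = 1 := by revert x; decide

/-- sign of an element of `ZMod 2` -/
def sgn (a : ZMod 2) : ℤˣ := if a = 0 then 1 else -1

theorem sgn_add (a b : ZMod 2) : sgn (a + b) = sgn a * sgn b := by revert a b; decide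
theorem sgn_zero : sgn 0 = 1 := rfl
theorem sgn_dv (x : D) : sgn (dv x false) * sgn (dv x true) = chi true x := by revert x; decide

/-- the swap -/
def bx (e : Bool) : Perm Bool := if e then swap false true else 1

theorem bx_apply (e b : Bool) : bx e b = xor b e := by revert e b; decide
theorem bx_mul (e f : Bool) : bx (xor e f) = bx e * bx f := by revert e f; decide
theorem sign_bx (x : D) : sign (bx (ds x)) = chi false x := by revert x; decide

variable {n : ℕ}

/-- the letter permutation of `f` -/
def sW (f : Fin n → D) : Perm (La n) := Equiv.prodCongrRight (fun i => bx (ds (f i)))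

theorem sW_apply (f : Fin n → D) (i : Fin n) (b : Bool) : sW f (i, b) = (i, xor b (ds (f i))) := by
  change (i, bx (ds (f i)) b) = _
  rw [bx_apply]

theorem sW_mul (f g : Fin n → D) : sW (f * g) = sW f * sW g := by
  apply Equiv.ext
  rintro ⟨i, b⟩
  rw [Perm.mul_apply, sW_apply, sW_apply, sW_apply, Pi.mul_apply, ds_mul]
  refine Prod.ext rfl ?_
  change (b ^^ (ds (f i) ^^ ds (g i))) = (b ^^ ds (g i) ^^ ds (f i))
  generalize ds (f i) = x; generalize ds (g i) = y
  revert b x y; decide

theorem sW_one : sW (1 : Fin n → D) = 1 := by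
  apply Equiv.ext
  rintro ⟨i, b⟩
  rw [sW_apply, Pi.one_apply, ds_one, Bool.xor_false]; rfl

theorem sW_inv_apply (f : Fin n → D) (i : Fin n) (b : Bool) : (sW f)⁻¹ (i, b) = (i, xor b (ds (f i))) := by
  rw [Perm.inv_eq_iff_eq, sW_apply, Bool.xor_assoc, Bool.xor_self, Bool.xor_false]

/-- the embedding -/
def jW : (Fin n → D) →* Wr (La n) where
  toFun f := ⟨fun p => dv (f p.1) p.2, sW f⟩
  map_one' := by
    apply Wr.ext
    · funext p
      exact dv_one _
    · exact sW_one
  map_mul' f g := by
    apply Wr.ext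
    · funext p
      rcases p with ⟨i, b⟩
      change dv ((f * g) i) b = dv (f i) b + _
      rw [Pi.mul_apply, dv_mul]
      change _ = dv (f i) b + (fun p : La n => dv (g p.1) p.2) ((sW f)⁻¹ (i, b))
      rw [sW_inv_apply]
    · exact sW_mul f g

@[simp] theorem jW_v (f : Fin n → D) (p : La n) : (jW f).v p = dv (f p.1) p.2 := rfl
@[simp] theorem jW_s (f : Fin n → D) : (jW f).s = sW f := rfl

theorem jW_injective : Function.Injective (jW : (Fin n → D) →* Wr (La n)) := by
  intro f g h
  funext i
  apply dv_inj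
  · intro b
    exact congrFun (congrArg Wr.v h) (i, b)
  · have h1 := congrArg Wr.s h
    rw [jW_s, jW_s] at h1
    have h2 := DFunLike.congr_fun h1 (i, false)
    rw [sW_apply, sW_apply, Bool.false_xor, Bool.false_xor] at h2
    exact congrArg Prod.snd h2

theorem jW_z : jW (fun _ : Fin n => z) = Wr.z (La n) := by
  apply Wr.ext
  · funext p
    exact dv_z _
  · apply Equiv.ext
    rintro ⟨i, b⟩
    rw [jW_s, sW_apply, ds_z, Bool.xor_false]; rfl

/-- the range of `jW` consists of the elements which preserve the blocks -/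
theorem mem_range_jW {x : Wr (La n)} : x ∈ (jW : (Fin n → D) →* Wr (La n)).range ↔ ∀ p, (x.s p).1 = p.1 := by
  constructor
  · rintro ⟨f, rfl⟩ ⟨i, b⟩
    rw [jW_s, sW_apply]
  · intro h
    have h0 : ∀ i : Fin n, ∃ y : D, dv y false = x.v (i, false) ∧ dv y true = x.v (i, true) ∧
        ds y = (x.s (i, false)).2 := fun i => dv_surj _ _ _
    choose f hf1 hf2 hf3 using h0
    refine ⟨f, ?_⟩
    apply Wr.ext
    · funext p
      rcases p with ⟨i, b⟩
      rw [jW_v]
      cases b
      · exact hf1 i
      · exact hf2 i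
    · apply Equiv.ext
      rintro ⟨i, b⟩
      rw [jW_s, sW_apply, hf3]
      refine Prod.ext (h (i, b)).symm ?_
      have h1 : x.s (i, false) ≠ x.s (i, true) := fun h => by
        have := x.s.injective h
        simp at this
      have h2 : (x.s (i, false)).2 ≠ (x.s (i, true)).2 := fun h2 =>
        h1 (Prod.ext ((h (i, false)).trans (h (i, true)).symm) h2)
      cases b
      · simp
      · change (true ^^ (x.s (i, false)).2) = (x.s (i, true)).2
        generalize (x.s (i, false)).2 = u at *
        generalize (x.s (i, true)).2 = w at *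
        revert h2; revert u w; decide

/-- the intersection with the base group -/
theorem jW_mem_E {f : Fin n → D} : jW f ∈ Wr.E (La n) ↔ f ∈ Rm (fun _ : Fin n => true) := by
  rw [Wr.mem_E, mem_Rm, jW_s]
  constructor
  · intro h i
    have h1 := DFunLike.congr_fun h (i, false)
    rw [sW_apply] at h1
    have h2 : (false ^^ ds (f i)) = false := congrArg Prod.snd h1
    rw [Bool.false_xor] at h2
    exact ds_eq_false.1 h2
  · intro h
    apply Equiv.ext
    rintro ⟨i, b⟩
    rw [sW_apply, ds_eq_false.2 (h i), Bool.xor_false]; rfl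

/-- the normalizer of the range preserves `Rm true` -/
theorem norm_Rm (x : Wr (La n)) {f f' : Fin n → D} (h : x * jW f * x⁻¹ = jW f') (hf : f ∈ Rm (fun _ : Fin n => true)) :
    f' ∈ Rm (fun _ : Fin n => true) := by
  rw [← jW_mem_E] at hf ⊢
  rw [← h]
  exact Subgroup.Normal.conj_mem inferInstance _ hf x

/-- the block permutations -/
def pW (σ : Perm (Fin n)) : Wr (La n) := Wr.sec (Equiv.prodCongrLeft (fun _ => σ⁻¹))

theorem pW_conj (σ : Perm (Fin n)) (f : Fin n → D) : pW σ * jW f * (pW σ)⁻¹ = jW (fun i => f (σ i)) := by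
  have h1 : ∀ i b, (pW σ).s (i, b) = (σ⁻¹ i, b) := fun i b => rfl
  have h2 : ∀ i b, (pW σ).s⁻¹ (i, b) = (σ i, b) := by
    intro i b
    rw [Perm.inv_eq_iff_eq, h1, ia]
  apply Wr.ext
  · funext p
    rcases p with ⟨i, b⟩
    rw [Wr.mul_v, Wr.mul_v, jW_v, jW_v, h2]
    change (0 : ZMod 2) + dv (f (σ i)) b + 0 = _
    rw [zero_add, add_zero]
  · apply Equiv.ext
    rintro ⟨i, b⟩
    rw [Wr.mul_s, Wr.mul_s, Wr.inv_s, Perm.mul_apply, Perm.mul_apply, h2, jW_s, jW_s, sW_apply, sW_apply, h1, ia]

/-- the first character -/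
def chiT : Wr (La n) →* ℤˣ where
  toFun x := ∏ p, sgn (x.v p)
  map_one' := by simp [sgn_zero]
  map_mul' x y := by
    simp only [Wr.mul_v, sgn_add, Finset.prod_mul_distrib]
    congr 1
    exact Equiv.prod_comp (x.s⁻¹ : Perm (La n)) (fun p => sgn (y.v p))

theorem chiT_jW (f : Fin n → D) : chiT (jW f) = ∏ i, chi true (f i) := by
  change ∏ p, sgn ((jW f).v p) = _
  rw [Fintype.prod_prod_type]
  apply Finset.prod_congr rfl
  intro i _
  rw [Fintype.prod_bool, jW_v, jW_v, mul_comm]
  exact sgn_dv (f i)

/-- the second character -/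
def chiF : Wr (La n) →* ℤˣ := sign.comp Wr.pr

theorem chiF_jW (f : Fin n → D) : chiF (jW f) = ∏ i, chi false (f i) := by
  change sign (sW f) = _
  rw [sW, sign_prodCongrRight]
  exact Finset.prod_congr rfl (fun i _ => sign_bx (f i))

theorem exists_chi (b : Bool) : ∃ χ : Wr (La n) →* ℤˣ, ∀ f, χ (jW f) = ∏ i, chi b (f i) := by
  cases b
  · exact ⟨chiF, chiF_jW⟩
  · exact ⟨chiT, chiT_jW⟩

/-- transport along a bijection of the letters -/
def Wr.congr {P P' : Type*} (e : P ≃ P') : Wr P ≃* Wr P' where
  toFun x := ⟨fun p => x.v (e.symm p), e.permCongr x.s⟩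
  invFun x := ⟨fun p => x.v (e p), e.symm.permCongr x.s⟩
  left_inv x := by
    apply Wr.ext
    · funext p; simp
    · apply Equiv.ext; intro p; simp
  right_inv x := by
    apply Wr.ext
    · funext p; simp
    · apply Equiv.ext; intro p; simp
  map_mul' x y := by
    apply Wr.ext
    · funext p
      simp only [Wr.mul_v]
      congr 2
      have h1 : (e.permCongr x.s)⁻¹ p = e (x.s⁻¹ (e.symm p)) := by
        apply (e.permCongr x.s).injective
        rw [ai, Equiv.permCongr_apply, Equiv.symm_apply_apply, ai, Equiv.apply_symm_apply]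
      rw [h1, Equiv.symm_apply_apply]
    · apply Equiv.ext; intro p; simp

theorem Wr.congr_z {P P' : Type*} (e : P ≃ P') : Wr.congr e (Wr.z P) = Wr.z P' := by
  apply Wr.ext
  · rfl
  · apply Equiv.ext; intro p; simp [Wr.congr, Wr.z]

/-- the centre of `Wr P` -/
theorem eq_z_of_central {P : Type*} [Nonempty P] [DecidableEq P] {x : Wr P} (h : ∀ y, x * y = y * x) (hx : x ≠ 1) :
    x = Wr.z P := by
  obtain ⟨p0⟩ := ‹Nonempty P›
  have h1 : x.s = 1 := by
    apply Equiv.ext
    intro p
    by_contra hne
    rw [Perm.one_apply] at hne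
    have h2 := Wr.conj_vec x (Pi.single p 1)
    rw [h, mul_inv_cancel_right] at h2
    have h3 := congrFun (Wr.vec_injective h2) (x.s p)
    rw [ia, Pi.single_eq_same, Pi.single_eq_of_ne hne] at h3
    exact absurd h3 (by decide)
  have h2 : ∀ p, x.v p = x.v p0 := by
    intro p
    have h3 := congrArg (fun y : Wr P => y.v p) (h (Wr.sec (swap p0 p)))
    simp only [Wr.mul_v, Wr.sec_v, Wr.sec_s, add_zero, zero_add] at h3
    rw [h3, Equiv.swap_inv, Equiv.swap_apply_right]
  rcases (show x.v p0 = 0 ∨ x.v p0 = 1 by generalize x.v p0 = a; revert a; decide) with h3 | h3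
  · exfalso
    apply hx
    apply Wr.ext
    · funext p
      rw [h2, h3]; rfl
    · exact h1
  · apply Wr.ext
    · funext p
      rw [h2, h3]; rfl
    · exact h1

end Cfsg.Agent.H244.Kondo
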