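import Cfsg.Agent.H244.Kondo.Weak

/-!
# The key lemma: local fusion in a block (helper244, for S3191)
-/

set_option autoImplicit false

namespace Cfsg.Agent.H244.Kondo

open Subgroup

theorem rr_ne_one (b : Bool) : rr b ≠ 1 := by revert b; decide

theorem exists_mul' (b : Bool) (x : D) : ∃ e s : D, chi (!b) e = 1 ∧ (s = 1 ∨ s = rr !b) ∧ x = e * s := by
  revert b x; decide

variable {G : Type*} [Group G] [Finite G] {n : ℕ}

omit [Finite G] in
theorem hom_eq_one (hG : ∀ H : Subgroup G, H.index ≠ 2) (f : G →* ℤˣ) (u : G) : f u = 1 := by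
  by_contra hu
  have h1 : f u = -1 := (Int.units_eq_one_or (f u)).resolve_left hu
  apply hG f.ker
  rw [Subgroup.index_ker]
  have h2 : f.range = ⊤ := by
    rw [eq_top_iff]
    intro x _
    rcases Int.units_eq_one_or x with rfl | rfl
    · exact one_mem _
    · exact ⟨u, h1⟩
  rw [h2, Nat.card_congr Subgroup.topEquiv.toEquiv, Nat.card_eq_fintype_card]
  rfl

/-- the subgroup of the elements with component `i0` in `RD b` -/
def Bm (b : Bool) (i0 : Fin n) : Subgroup (Fin n → D) := ((chi (!b)).comp (Pi.evalMonoidHom (fun _ => D) i0)).ker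

theorem mem_Bm {b : Bool} {i0 : Fin n} {f : Fin n → D} : f ∈ Bm b i0 ↔ chi (!b) (f i0) = 1 := Iff.rfl

theorem Rm_le_Bm (b : Bool) (i0 : Fin n) : Rm (fun _ : Fin n => b) ≤ Bm b i0 := fun _ hf => hf i0

namespace KD

variable {P : Sylow 2 G} {C : Subgroup G} {j : (Fin n → D) →* G}

/-- a conjugating element from the extremal transfer lemma -/
theorem exists_transfer (h : KD P C j) (hG : ∀ H : Subgroup G, H.index ≠ 2) (b : Bool) (i0 : Fin n) :
    ∃ g : G, (∀ f, f * Pi.mulSingle i0 (rr b) = Pi.mulSingle i0 (rr b) * f → g * j f * g⁻¹ ∈ (P : Subgroup G)) ∧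
      ∀ u', g * j (Pi.mulSingle i0 (rr b)) * g⁻¹ = j u' → ∏ i, chi b (u' i) = 1 := by
  obtain ⟨χ, hχ⟩ := h.ch b
  set u : G := j (Pi.mulSingle i0 (rr b)) with hu
  have huP : u ∈ (P : Subgroup G) := h.le _
  have hχu : χ ⟨u, h.leC huP⟩ = -1 := by
    have h1 := hχ (Pi.mulSingle i0 (rr b))
    rw [Finset.prod_eq_single i0 (by
      intro i _ hi
      rw [Pi.mulSingle_eq_of_ne hi, map_one]) (fun hn => absurd (Finset.mem_univ _) hn), Pi.mulSingle_eq_same,
      chi_rr] at h1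
    exact h1
  set T : Subgroup G := χ.ker.map C.subtype ⊓ (P : Subgroup G) with hT
  have memT : ∀ x (hx : x ∈ (P : Subgroup G)), x ∈ T ↔ χ ⟨x, h.leC hx⟩ = 1 := by
    intro x hx
    constructor
    · rintro ⟨⟨y, hy, hyx⟩, -⟩
      have h1 : y = ⟨x, h.leC hx⟩ := Subtype.ext hyx
      rw [← h1]
      exact hy
    · intro h1
      exact ⟨⟨⟨x, h.leC hx⟩, h1, rfl⟩, hx⟩
  have hmul : ∀ x (hx : x ∈ (P : Subgroup G)) y (hy : y ∈ (P : Subgroup G)),
      χ ⟨x * y, h.leC (mul_mem hx hy)⟩ = χ ⟨x, h.leC hx⟩ * χ ⟨y, h.leC hy⟩ := by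
    intro x hx y hy
    rw [← map_mul]; rfl
  have hidx : T.relIndex (P : Subgroup G) = 2 := by
    rw [Subgroup.relIndex_eq_two_iff_exists_notMem_and]
    refine ⟨u, huP, ?_, ?_⟩
    · rw [memT u huP, hχu]; decide
    · intro x hx
      rcases Int.units_eq_one_or (χ ⟨x, h.leC hx⟩) with h1 | h1
      · right
        exact (memT x hx).2 h1
      · left
        rw [memT _ (mul_mem hx huP), hmul x hx u huP, h1, hχu]; rfl
  obtain ⟨g, hg1, hg2⟩ := SylowSp4.ExtTransfer.exists_extremal P T inf_le_right hidx u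
    (by rw [hu, ← map_mul, Rm_sq (single_mem_Rm (β := fun _ => b) (chi_not_rr b)), map_one])
    (fun f => hom_eq_one hG f u) ((P : Subgroup G) ⊓ centralizer {u}) (P.isPGroup'.to_le inf_le_left)
    (fun r hr => mem_centralizer_singleton_iff.1 hr.2)
  refine ⟨g, ?_, ?_⟩
  · intro f hf
    apply hg2
    refine ⟨h.le f, ?_⟩
    change j f ∈ centralizer {u}
    rw [mem_centralizer_singleton_iff, hu, ← map_mul, ← map_mul, hf]
  · intro u' hu'
    rw [← hχ]
    have h1 := hg1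
    rw [hu'] at h1
    exact (memT _ (h.le u')).1 h1

/-- **the key lemma** -/
theorem exists_key (h : KD P C j) (hG : ∀ H : Subgroup G, H.index ≠ 2) (b : Bool) (i0 : Fin n) :
    ∃ k : G, (∀ i, i ≠ i0 → k * j (zi i) * k⁻¹ = j (zi i)) ∧
      (∀ f ∈ Rm (fun _ : Fin n => b), k * j f * k⁻¹ ∈ (Rm (fun _ : Fin n => b)).map j) ∧
      (∀ f ∈ Bm b i0, k * j f * k⁻¹ ∈ (Bm b i0).map j) ∧
      ∃ c, chi (!b) (c i0) = 1 ∧ chi b (c i0) ≠ 1 ∧ (∀ m, m ≠ i0 → c m = 1 ∨ c m = z) ∧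
        k * j (zi i0) * k⁻¹ = j c := by
  classical
  obtain ⟨g, hgP, hgu⟩ := h.exists_transfer hG b i0
  have hgR := h.wc_R b (g := g) (fun f hf => hgP f
    (Rm_comm hf (single_mem_Rm (β := fun _ => b) (chi_not_rr b))))
  set β : Fin n → Bool := Function.update (fun _ => !b) i0 b with hβ
  have hβ0 : β i0 = b := Function.update_self ..
  have hβi : ∀ i, i ≠ i0 → β i = !b := fun i hi => Function.update_of_ne hi ..
  have hgβ := h.rank_mem (β := β) (g := g) (fun f hf => hgP f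
    (Rm_comm hf (single_mem_Rm (β := β) (by rw [hβ0]; exact chi_not_rr b))))
  have hx0 : ∀ i, i ≠ i0 → ∃ x', j x' = g * j (Pi.mulSingle i (rr !b)) * g⁻¹ := by
    intro i hi
    exact hgβ _ (single_mem_Rm (β := β) (by rw [hβi i hi]; exact chi_not_rr (!b)))
  choose x' hx' using hx0
  have hl0 : ∀ i (hi : i ≠ i0), ∃ l, g * j (zi i) * g⁻¹ = j (zi l) ∧ chi (!b) (x' i hi l) ≠ 1 ∧
      ∀ m, chi (!b) (x' i hi m) ≠ 1 → m = l := fun i hi => h.exists_image hgR (hx' i hi).symm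
  choose l hl1 hl2 hl3 using hl0
  have hlinj : Function.Injective (fun x : {x : Fin n // x ≠ i0} => l x.1 x.2) := by
    rintro ⟨i, hi⟩ ⟨i', hi'⟩ hii
    have h1 : g * j (zi i) * g⁻¹ = g * j (zi i') * g⁻¹ := by
      rw [hl1 i hi, hl1 i' hi']
      exact congrArg (fun x => j (zi x)) hii
    exact Subtype.ext (zi_inj (h.inj (mul_left_cancel (mul_right_cancel h1))))
  obtain ⟨σ, hσ⟩ := Equiv.Perm.exists_extending_pair (fun x : {x : Fin n // x ≠ i0} => (x : Fin n))
    (fun x => l x.1 x.2) Subtype.val_injective hlinj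
  have hσi : ∀ i (hi : i ≠ i0), σ i = l i hi := fun i hi => hσ ⟨i, hi⟩
  obtain ⟨w, hwC, hw⟩ := h.perm σ
  have hwz : ∀ i, w * j (zi (σ i)) * w⁻¹ = j (zi i) := by
    intro i
    rw [hw]
    congr 1
    funext m
    by_cases hm : m = i
    · subst hm
      rw [zi, zi, Pi.mulSingle_eq_same, Pi.mulSingle_eq_same]
    · rw [zi, zi, Pi.mulSingle_eq_of_ne hm, Pi.mulSingle_eq_of_ne (fun e => hm (σ.injective e))]
  set g' : G := w * g with hg'
  have hgw : ∀ x, g' * x * g'⁻¹ = w * (g * x * g⁻¹) * w⁻¹ := fun x => by rw [hg']; group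
  have g1 : ∀ i, i ≠ i0 → g' * j (zi i) * g'⁻¹ = j (zi i) := by
    intro i hi
    rw [hgw, hl1 i hi, ← hσi i hi, hwz]
  have g2 : ∀ f ∈ Rm (fun _ : Fin n => b), g' * j f * g'⁻¹ ∈ (Rm (fun _ : Fin n => b)).map j := by
    intro f hf
    obtain ⟨f', hf', hfe⟩ := hgR f hf
    rw [hgw, ← hfe, hw]
    exact ⟨_, fun i => hf' (σ i), rfl⟩
  have g3 : ∀ i (hi : i ≠ i0), g' * j (Pi.mulSingle i (rr !b)) * g'⁻¹ = j (fun m => x' i hi (σ m)) := by
    intro i hi
    rw [hgw, ← hx' i hi, hw]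
  have g3a : ∀ i (hi : i ≠ i0), chi (!b) (x' i hi (σ i)) ≠ 1 := by
    intro i hi
    rw [hσi i hi]; exact hl2 i hi
  have g3b : ∀ i (hi : i ≠ i0) m, m ≠ i → chi (!b) (x' i hi (σ m)) = 1 := by
    intro i hi m hm
    by_contra hc
    have h1 := hl3 i hi _ hc
    rw [← hσi i hi] at h1
    exact hm (σ.injective h1)
  obtain ⟨u1, hu1, hu1e⟩ := hgR (Pi.mulSingle i0 (rr b)) (single_mem_Rm (β := fun _ => b) (chi_not_rr b))
  set u' : Fin n → D := fun i => u1 (σ i) with hu'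
  have hu'e : g' * j (Pi.mulSingle i0 (rr b)) * g'⁻¹ = j u' := by
    rw [hgw, ← hu1e, hw]
  have hu'R : ∀ m, chi (!b) (u' m) = 1 := fun m => hu1 (σ m)
  have hprod : ∏ i, chi b (u' i) = 1 := by
    rw [hu', Equiv.prod_comp σ (fun i => chi b (u1 i))]
    exact hgu u1 hu1e.symm
  have hu'm : ∀ m, m ≠ i0 → chi b (u' m) = 1 := by
    intro m hm
    by_contra hc
    have h1 := comm_ne_one b (g3a m hm) (hu'R m) hc
    have h2 : (Pi.mulSingle m (rr !b) : Fin n → D) * Pi.mulSingle i0 (rr b) =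
        Pi.mulSingle i0 (rr b) * Pi.mulSingle m (rr !b) :=
      Rm_comm (single_mem_Rm (β := β) (by rw [hβi m hm]; exact chi_not_rr (!b)))
        (single_mem_Rm (β := β) (by rw [hβ0]; exact chi_not_rr b))
    have h3 : j ((fun m' => x' m hm (σ m')) * u') = j (u' * (fun m' => x' m hm (σ m'))) := by
      rw [map_mul, map_mul, ← g3 m hm, ← hu'e]
      have h4 := congrArg j h2
      rw [map_mul, map_mul] at h4
      calc g' * j (Pi.mulSingle m (rr !b)) * g'⁻¹ * (g' * j (Pi.mulSingle i0 (rr b)) * g'⁻¹)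
          = g' * (j (Pi.mulSingle m (rr !b)) * j (Pi.mulSingle i0 (rr b))) * g'⁻¹ := by group
        _ = _ := by rw [h4]; group
    have h4 : x' m hm (σ m) * u' m = u' m * x' m hm (σ m) := congrFun (h.inj h3) m
    rw [h4, mul_inv_cancel_right, mul_inv_cancel] at h1
    exact z_ne_one h1.symm
  have hu'0 : chi b (u' i0) = 1 := by
    rwa [Finset.prod_eq_single i0 (fun m _ hm => hu'm m hm) (fun hn => absurd (Finset.mem_univ _) hn)] at hprod
  have hu'Z : ∀ m, u' m = 1 ∨ u' m = z := by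
    intro m
    by_cases hm : m = i0
    · rw [hm]
      exact eq_one_or_z' b hu'0 (hu'R i0)
    · exact eq_one_or_z' b (hu'm m hm) (hu'R m)
  obtain ⟨I, hI⟩ := exists_zI hu'Z
  have hfix : ∀ I' : Finset (Fin n), i0 ∉ I' → g' * j (zI I') * g'⁻¹ = j (zI I') := by
    intro I' hI'
    have h1 := zI_map (g := g') (j := j) (σ := id) Function.injective_id (I := I')
      (fun i hi => g1 i (fun e => hI' (e ▸ hi)))
    rwa [Finset.image_id] at h1
  have hi0I : i0 ∈ I := by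
    by_contra hc
    have h1 := hfix I hc
    rw [← hI, ← hu'e] at h1
    have h2 := mul_left_cancel (mul_right_cancel h1)
    rw [hu'e] at h2
    have h3 := congrFun (h.inj h2) i0
    rw [hI, Pi.mulSingle_eq_same, zI, if_neg hc] at h3
    exact rr_ne_one b h3.symm
  set I' := I.erase i0 with hI'
  have hI'0 : i0 ∉ I' := Finset.notMem_erase i0 I
  have hII : zI I = zi i0 * zI I' := by
    rw [← zI_insert hI'0, hI', Finset.insert_erase hi0I]
  set c : Fin n → D := Pi.mulSingle i0 (rr b) * zI I' with hc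
  have hgc : g' * j c * g'⁻¹ = j (zi i0) := by
    have h1 : g' * j c * g'⁻¹ = g' * j (Pi.mulSingle i0 (rr b)) * g'⁻¹ * (g' * j (zI I') * g'⁻¹) := by
      rw [hc, map_mul]; group
    have h2 : zI I' * zI I' = 1 := Rm_sq (zI_mem_Rm (fun _ => true) I')
    rw [h1, hu'e, hfix I' hI'0, hI, hII, ← map_mul, mul_assoc, h2, mul_one]
  have gB : ∀ f ∈ Bm b i0, g' * j f * g'⁻¹ ∈ (Bm b i0).map j := by
    intro f hf
    have h1 : f ∈ ((Bm b i0).map j).comap ((MulAut.conj g').toMonoidHom.comp j) := by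
      apply pi_mem_of_mulSingle_mem
      intro i
      change g' * j (Pi.mulSingle i (f i)) * g'⁻¹ ∈ (Bm b i0).map j
      have hle : (Rm (fun _ : Fin n => b)).map j ≤ (Bm b i0).map j := Subgroup.map_mono (Rm_le_Bm b i0)
      by_cases hi : i = i0
      · subst hi
        exact hle (g2 _ (single_mem_Rm (β := fun _ => b) hf))
      · obtain ⟨e, s, he, hs, hes⟩ := exists_mul' b (f i)
        have h3 : g' * j (Pi.mulSingle i (e * s)) * g'⁻¹ =
            g' * j (Pi.mulSingle i e) * g'⁻¹ * (g' * j (Pi.mulSingle i s) * g'⁻¹) := by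
          rw [Pi.mulSingle_mul, map_mul]; group
        rw [hes, h3]
        refine mul_mem (hle (g2 _ (single_mem_Rm (β := fun _ => b) he))) ?_
        rcases hs with hs | hs
        · rw [hs, Pi.mulSingle_one, map_one, mul_one, mul_inv_cancel]
          exact one_mem _
        · rw [hs, g3 i hi]
          exact ⟨_, g3b i hi i0 (fun e => hi e.symm), rfl⟩
    exact h1
  have hinv : ∀ (B : Subgroup (Fin n → D)), (∀ f ∈ B, g' * j f * g'⁻¹ ∈ B.map j) →
      ∀ f ∈ B, g'⁻¹ * j f * g'⁻¹⁻¹ ∈ B.map j := by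
    intro B hB f hf
    rw [inv_inv]
    exact conj_mem_of_le (J := B.map j) (by rintro _ ⟨x, hx, rfl⟩; exact hB x hx) (j f) ⟨f, hf, rfl⟩
  refine ⟨g'⁻¹, ?_, hinv _ g2, hinv _ gB, c, ?_, ?_, ?_, ?_⟩
  · intro i hi
    have h1 := g1 i hi
    rw [inv_inv]
    nth_rewrite 1 [← h1]
    group
  · rw [hc, Pi.mul_apply, Pi.mulSingle_eq_same, map_mul, chi_not_rr, zI, if_neg hI'0, map_one, one_mul]
  · rw [hc, Pi.mul_apply, Pi.mulSingle_eq_same, map_mul, chi_rr, zI, if_neg hI'0, map_one, mul_one]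
    decide
  · intro m hm
    rw [hc, Pi.mul_apply, Pi.mulSingle_eq_of_ne hm, one_mul, zI]
    split_ifs
    · exact Or.inr rfl
    · exact Or.inl rfl
  · rw [inv_inv, ← hgc]
    group

end KD

end Cfsg.Agent.H244.Kondo
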