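import Cfsg.Agent.H244.Kondo.Key

/-!
# The number of classes of involutions in the set-up `KD` (helper244, for S3191)
-/

set_option autoImplicit false

namespace Cfsg.Agent.H244.Kondo

open Subgroup

variable {G : Type*} [Group G] [Finite G] {n : ℕ}

theorem central_iff (b : Bool) {x : D} : (x = 1 ∨ x = z) ↔ chi b x = 1 ∧ chi (!b) x = 1 := by
  revert b x; decide

theorem comm_rr (b : Bool) : rr b * rr (!b) * (rr b)⁻¹ * (rr (!b))⁻¹ = z := by
  revert b; decide

theorem eq_not_of_ne {e b : Bool} (h : e ≠ b) : e = !b := by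
  revert e b; decide

omit [Finite G] in
/-- components under a conjugation -/
theorem comp_iff {j : (Fin n → D) →* G} (hj : Function.Injective j) {k : G} {m : Fin n} {e : Bool} {p f f1 : Fin n → D}
    (hp : k * j (Pi.mulSingle m (rr e)) * k⁻¹ = j p) (hp1 : chi (!e) (p m) = 1) (hp2 : chi e (p m) ≠ 1)
    (hz : k * j (zi m) * k⁻¹ = j (zi m)) (hf : k * j f * k⁻¹ = j f1) :
    chi (!e) (f1 m) = 1 ↔ chi (!e) (f m) = 1 := by
  have h1 : k * j (f * Pi.mulSingle m (rr e) * f⁻¹ * (Pi.mulSingle m (rr e))⁻¹) * k⁻¹ = j (f1 * p * f1⁻¹ * p⁻¹) := by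
    simp only [map_mul, map_inv]
    rw [← hp, ← hf]
    group
  rw [comm_single] at h1
  constructor
  · intro h2
    by_contra h3
    rw [comm_ne_one e h3 (chi_not_rr e) (by rw [chi_rr]; decide)] at h1
    have h4 : j (zi m) = j (f1 * p * f1⁻¹ * p⁻¹) := by rw [← h1, ← hz]; rfl
    have h5 := congrFun (hj h4) m
    rw [zi, Pi.mulSingle_eq_same] at h5
    change z = f1 m * p m * (f1 m)⁻¹ * (p m)⁻¹ at h5
    rw [comm_eq_one e h2 hp1, mul_inv_cancel_right, mul_inv_cancel] at h5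
    exact z_ne_one h5
  · intro h2
    by_contra h3
    rw [comm_eq_one e h2 (chi_not_rr e), mul_inv_cancel_right, mul_inv_cancel, Pi.mulSingle_one, map_one, mul_one,
      mul_inv_cancel, ← map_one j] at h1
    have h5 := congrFun (hj h1) m
    change 1 = f1 m * p m * (f1 m)⁻¹ * (p m)⁻¹ at h5
    rw [comm_ne_one e h3 hp1 hp2] at h5
    exact z_ne_one h5.symm

namespace KD

variable {P : Sylow 2 G} {C : Subgroup G} {j : (Fin n → D) →* G}

/-- the number of non central components can be reduced -/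
theorem reduce (h : KD P C j) (hG : ∀ H : Subgroup G, H.index ≠ 2) {b : Bool} {i0 : Fin n} {f : Fin n → D}
    (hf : chi (!b) (f i0) = 1) (hf' : chi b (f i0) ≠ 1) :
    ∃ g f', g * j f * g⁻¹ = j f' ∧ (f' i0 = 1 ∨ f' i0 = z) ∧ ∀ m, m ≠ i0 → ((f' m = 1 ∨ f' m = z) ↔ (f m = 1 ∨ f m = z)) := by
  obtain ⟨k, k1, k2, kB, c, hc1, hc2, hc3, hc⟩ := h.exists_key hG b i0
  have hcomp : ∀ m, m ≠ i0 → ∀ e : Bool, ∃ p : Fin n → D, k * j (Pi.mulSingle m (rr e)) * k⁻¹ = j p ∧
      chi (!e) (p m) = 1 ∧ chi e (p m) ≠ 1 := by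
    intro m hm
    obtain ⟨p, hpB, hp⟩ := kB (Pi.mulSingle m (rr !b)) (by
      rw [mem_Bm, Pi.mulSingle_eq_of_ne (fun e => hm e.symm), map_one])
    obtain ⟨l, hl1, hl2, -⟩ := h.exists_image k2 hp.symm
    have hlm : l = m := by
      rw [k1 m hm] at hl1
      exact (zi_inj (h.inj hl1)).symm
    subst hlm
    have hpsq : p * p = 1 := by
      apply h.inj
      rw [map_mul, hp, map_one]
      have h2 : j (Pi.mulSingle l (rr !b)) * j (Pi.mulSingle l (rr !b)) = 1 := by
        rw [← map_mul, Rm_sq (single_mem_Rm (β := fun _ => !b) (chi_not_rr (!b))), map_one]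
      calc k * j (Pi.mulSingle l (rr !b)) * k⁻¹ * (k * j (Pi.mulSingle l (rr !b)) * k⁻¹)
          = k * (j (Pi.mulSingle l (rr !b)) * j (Pi.mulSingle l (rr !b))) * k⁻¹ := by group
        _ = 1 := by rw [h2]; group
    have hpb : chi b (p l) = 1 := mem_of_sq' b (congrFun hpsq l) hl2
    obtain ⟨q, hqR, hq⟩ := k2 (Pi.mulSingle l (rr b)) (single_mem_Rm (β := fun _ => b) (chi_not_rr b))
    have hqb : chi b (q l) ≠ 1 := by
      intro h1
      have h2 : k * j (Pi.mulSingle l (rr b) * Pi.mulSingle l (rr !b) * (Pi.mulSingle l (rr b))⁻¹ *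
          (Pi.mulSingle l (rr !b))⁻¹) * k⁻¹ = j (q * p * q⁻¹ * p⁻¹) := by
        simp only [map_mul, map_inv]
        rw [hq, hp]
        group
      rw [comm_single, Pi.mulSingle_eq_same] at h2
      rw [comm_rr] at h2
      have h4 : j (zi l) = j (q * p * q⁻¹ * p⁻¹) := by rw [← h2, ← k1 l hm]; rfl
      have h5 := congrFun (h.inj h4) l
      rw [zi, Pi.mulSingle_eq_same] at h5
      change z = q l * p l * (q l)⁻¹ * (p l)⁻¹ at h5
      have h6 : q l * p l = p l * q l := by
        rcases eq_one_or_z' b h1 (hqR l) with h7 | h7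
        · rw [h7, one_mul, mul_one]
        · rw [h7, z_comm]
      rw [h6, mul_inv_cancel_right, mul_inv_cancel] at h5
      exact z_ne_one h5
    intro e
    by_cases he : e = b
    · subst he
      exact ⟨q, hq.symm, hqR l, hqb⟩
    · have he' : e = !b := eq_not_of_ne he
      subst he'
      refine ⟨p, hp.symm, ?_, hl2⟩
      rw [Bool.not_not]; exact hpb
  have hiff : ∀ f f1 : Fin n → D, k * j f * k⁻¹ = j f1 → ∀ m, m ≠ i0 →
      ((f1 m = 1 ∨ f1 m = z) ↔ (f m = 1 ∨ f m = z)) := by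
    intro f f1 hff m hm
    obtain ⟨p, hp, hp1, hp2⟩ := hcomp m hm b
    obtain ⟨q, hq, hq1, hq2⟩ := hcomp m hm (!b)
    have h1 := comp_iff h.inj hp hp1 hp2 (k1 m hm) hff
    have h2 := comp_iff h.inj hq hq1 hq2 (k1 m hm) hff
    rw [Bool.not_not] at h2
    rw [central_iff b, central_iff b, h1, h2]
  obtain ⟨f1, hf1B, hf1⟩ := kB f hf
  by_cases h1 : chi b (f1 i0) = 1
  · exact ⟨k, f1, hf1.symm, eq_one_or_z' b h1 hf1B, hiff f f1 hf1.symm⟩
  refine ⟨k * j (Pi.mulSingle i0 (rr !b)), f1 * c, ?_, ?_, ?_⟩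
  · have h2 : Pi.mulSingle i0 (rr !b) * f * (Pi.mulSingle i0 (rr !b))⁻¹ = f * zi i0 := by
      funext m
      by_cases hm : m = i0
      · subst hm
        simp only [Pi.mul_apply, Pi.inv_apply, zi, Pi.mulSingle_eq_same]
        exact rr_conj b hf hf'
      · simp only [Pi.mul_apply, Pi.inv_apply, zi, Pi.mulSingle_eq_of_ne hm]
        group
    calc k * j (Pi.mulSingle i0 (rr !b)) * j f * (k * j (Pi.mulSingle i0 (rr !b)))⁻¹
        = k * j (Pi.mulSingle i0 (rr !b) * f * (Pi.mulSingle i0 (rr !b))⁻¹) * k⁻¹ := by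
          rw [map_mul, map_mul, map_inv]; group
      _ = (k * j f * k⁻¹) * (k * j (zi i0) * k⁻¹) := by rw [h2, map_mul]; group
      _ = j (f1 * c) := by rw [← hf1, hc, map_mul]
  · rw [Pi.mul_apply]
    apply eq_one_or_z' b
    · rw [map_mul, (Int.units_eq_one_or _).resolve_left h1, (Int.units_eq_one_or _).resolve_left hc2]; rfl
    · rw [map_mul, mem_Bm.1 hf1B, hc1, one_mul]
  · intro m hm
    rw [← hiff f f1 hf1.symm m hm, Pi.mul_apply]
    rcases hc3 m hm with h2 | h2
    · rw [h2, mul_one]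
    · rw [h2, central_iff b, central_iff b, map_mul, map_mul, chi_z, chi_z, mul_one, mul_one]

/-- every involution of `J` is conjugate to an element of the centre of `J` -/
theorem exists_central (h : KD P C j) (hG : ∀ H : Subgroup G, H.index ≠ 2) :
    ∀ (N : ℕ) (f : Fin n → D), f * f = 1 → (Finset.univ.filter (fun m => ¬ (f m = 1 ∨ f m = z))).card = N →
      ∃ g I, g * j f * g⁻¹ = j (zI I) := by
  intro N
  induction N using Nat.strong_induction_on with
  | _ N ih =>
    intro f hf hN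
    by_cases hall : ∀ m, f m = 1 ∨ f m = z
    · obtain ⟨I, hI⟩ := exists_zI hall
      exact ⟨1, I, by rw [hI]; group⟩
    push Not at hall
    obtain ⟨i0, hi1, hi2⟩ := hall
    have hsq : f i0 * f i0 = 1 := congrFun hf i0
    obtain ⟨b, hb1, hb2⟩ : ∃ b, chi (!b) (f i0) = 1 ∧ chi b (f i0) ≠ 1 := by
      clear hN ih hf
      generalize f i0 = x at *
      revert x; decide
    obtain ⟨g, f', hgf, h0, hm⟩ := h.reduce hG hb1 hb2
    have hf' : f' * f' = 1 := by
      apply h.inj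
      rw [map_mul, ← hgf, map_one]
      calc g * j f * g⁻¹ * (g * j f * g⁻¹) = g * j (f * f) * g⁻¹ := by rw [map_mul]; group
        _ = 1 := by rw [hf, map_one]; group
    have hlt : (Finset.univ.filter (fun m => ¬ (f' m = 1 ∨ f' m = z))).card < N := by
      rw [← hN]
      apply Finset.card_lt_card
      rw [Finset.ssubset_iff_of_subset]
      · refine ⟨i0, ?_, ?_⟩
        · rw [Finset.mem_filter]
          exact ⟨Finset.mem_univ _, by tauto⟩
        · rw [Finset.mem_filter]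
          tauto
      · intro m hmm
        rw [Finset.mem_filter] at hmm ⊢
        refine ⟨Finset.mem_univ _, ?_⟩
        by_cases hmi : m = i0
        · subst hmi
          tauto
        · rw [← hm m hmi]; exact hmm.2
    obtain ⟨g1, I, hI⟩ := ih _ hlt f' hf' rfl
    refine ⟨g1 * g, I, ?_⟩
    calc g1 * g * j f * (g1 * g)⁻¹ = g1 * (g * j f * g⁻¹) * g1⁻¹ := by group
      _ = _ := by rw [hgf, hI]

/-- every involution is conjugate to a product of the first `k` involutions `z_i` -/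
theorem exists_conj (h : KD P C j) (hG : ∀ H : Subgroup G, H.index ≠ 2) {x : G} (hx : orderOf x = 2) :
    ∃ (g : G) (k : Fin n), g * x * g⁻¹ = j (zI (Finset.Iic k)) := by
  have : Fact (Nat.Prime 2) := ⟨Nat.prime_two⟩
  have hxx : x * x = 1 := by rw [← pow_two, ← hx, pow_orderOf_eq_one]
  have hx1 : x ≠ 1 := by
    rintro rfl
    rw [orderOf_one] at hx
    omega
  have hp : IsPGroup 2 (zpowers x) := IsPGroup.of_card (n := 1) (by rw [Nat.card_zpowers, hx]; rfl)
  obtain ⟨Q, hQ⟩ := hp.exists_le_sylow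
  obtain ⟨g0, hg0⟩ := MulAction.exists_smul_eq G Q P
  have h1 : g0 * x * g0⁻¹ ∈ (P : Subgroup G) := by
    rw [← hg0, Sylow.coe_subgroup_smul, Subgroup.mem_smul_pointwise_iff_exists]
    exact ⟨x, hQ (mem_zpowers x), rfl⟩
  obtain ⟨g1, f, hf⟩ := h.inv _ h1 (by
    calc g0 * x * g0⁻¹ * (g0 * x * g0⁻¹) = g0 * (x * x) * g0⁻¹ := by group
      _ = 1 := by rw [hxx]; group)
  have hff : f * f = 1 := by
    apply h.inj
    rw [map_mul, hf, map_one]
    calc g1 * (g0 * x * g0⁻¹) * g1⁻¹ * (g1 * (g0 * x * g0⁻¹) * g1⁻¹) = g1 * g0 * (x * x) * g0⁻¹ * g1⁻¹ := by group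
      _ = 1 := by rw [hxx]; group
  obtain ⟨g2, I, hI⟩ := h.exists_central hG _ f hff rfl
  have hI0 : I.Nonempty := by
    rw [Finset.nonempty_iff_ne_empty]
    rintro rfl
    rw [zI_empty, map_one, hf] at hI
    apply hx1
    have h2 : g2 * (g1 * (g0 * x * g0⁻¹) * g1⁻¹) * g2⁻¹ = (g2 * g1 * g0) * x * (g2 * g1 * g0)⁻¹ := by group
    rw [h2] at hI
    have h3 : (g2 * g1 * g0) * x * (g2 * g1 * g0)⁻¹ = (g2 * g1 * g0) * 1 * (g2 * g1 * g0)⁻¹ := by rw [hI]; group
    exact mul_left_cancel (mul_right_cancel h3)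
  have hIc : 1 ≤ I.card := hI0.card_pos
  have hIn : I.card ≤ n := by
    have := Finset.card_le_univ I
    rwa [Fintype.card_fin] at this
  set k : Fin n := ⟨I.card - 1, by omega⟩ with hk
  have hck : (Finset.Iic k).card = I.card := by
    rw [Fin.card_Iic, hk]
    change I.card - 1 + 1 = I.card
    omega
  obtain ⟨σ, hσ⟩ := Equiv.Perm.exists_map_finset_eq (Finset.Iic k) I hck
  obtain ⟨w, -, hw⟩ := h.perm σ
  have h4 : (fun i => zI I (σ i)) = zI (Finset.Iic k) := by
    funext i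
    rw [zI, zI]
    have h5 : σ i ∈ I ↔ i ∈ Finset.Iic k := by
      rw [← hσ, Finset.mem_map_equiv, Equiv.symm_apply_apply]
    by_cases h6 : i ∈ Finset.Iic k
    · rw [if_pos h6, if_pos (h5.2 h6)]
    · rw [if_neg h6, if_neg (fun h7 => h6 (h5.1 h7))]
  refine ⟨w * g2 * g1 * g0, k, ?_⟩
  rw [← h4, ← hw, ← hI, hf]
  group

/-- **the number of classes of involutions** -/
theorem card_classes (h : KD P C j) (hG : ∀ H : Subgroup G, H.index ≠ 2) :
    Nat.card {c : ConjClasses G // ∃ x ∈ c.carrier, orderOf x = 2} = n := by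
  have hord : ∀ k : Fin n, orderOf (j (zI (Finset.Iic k))) = 2 := by
    intro k
    apply orderOf_eq_prime
    · rw [pow_two, ← map_mul, Rm_sq (zI_mem_Rm (fun _ => true) _), map_one]
    · intro h1
      rw [← map_one j] at h1
      have h2 := congrFun (h.inj h1) k
      rw [zI, if_pos (Finset.mem_Iic.2 le_rfl)] at h2
      exact z_ne_one h2
  have e : Fin n ≃ {c : ConjClasses G // ∃ x ∈ c.carrier, orderOf x = 2} := by
    refine Equiv.ofBijective (fun k => ⟨ConjClasses.mk (j (zI (Finset.Iic k))), _, ConjClasses.mem_carrier_mk, hord k⟩) ⟨?_, ?_⟩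
    · intro k k' hkk
      have h1 : ConjClasses.mk (j (zI (Finset.Iic k))) = ConjClasses.mk (j (zI (Finset.Iic k'))) :=
        congrArg Subtype.val hkk
      rw [ConjClasses.mk_eq_mk_iff_isConj, isConj_iff] at h1
      obtain ⟨g, hg⟩ := h1
      have h2 := h.card_eq_of_conj hg
      rw [Fin.card_Iic, Fin.card_Iic] at h2
      exact Fin.ext (by omega)
    · rintro ⟨c, x, hx, hx2⟩
      obtain ⟨g, k, hg⟩ := h.exists_conj hG hx2
      refine ⟨k, Subtype.ext ?_⟩
      change ConjClasses.mk (j (zI (Finset.Iic k))) = c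
      rw [ConjClasses.mem_carrier_iff_mk_eq] at hx
      rw [← hx, ConjClasses.mk_eq_mk_iff_isConj]
      exact (isConj_iff.2 ⟨g, hg⟩).symm
  rw [← Nat.card_congr e, Nat.card_fin]

end KD

end Cfsg.Agent.H244.Kondo
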