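import Cfsg.Agent.H244.Kondo.Abs

/-!
# Weak closure in the set-up `KD` (helper244, for S3191)
-/

set_option autoImplicit false

namespace Cfsg.Agent.H244.Kondo

open Subgroup

theorem cases_R (b : Bool) {x : D} (h : chi (!b) x = 1) : x = 1 ∨ x = z ∨ x = rr b ∨ x = rr b * z := by
  revert b x; decide

variable {G : Type*} [Group G] [Finite G] {n : ℕ}

theorem single_mem_Rm {β : Fin n → Bool} {i : Fin n} {x : D} (hx : chi (!(β i)) x = 1) :
    Pi.mulSingle i x ∈ Rm β := by
  intro m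
  by_cases h : m = i
  · subst h
    rw [Pi.mulSingle_eq_same, hx]
  · rw [Pi.mulSingle_eq_of_ne h, map_one]

theorem zI_mem_Rm (β : Fin n → Bool) (I : Finset (Fin n)) : zI I ∈ Rm β := by
  intro m
  rw [zI]
  split_ifs
  · exact chi_z _
  · exact map_one _

theorem zi_eq_zI (i : Fin n) : zi i = zI {i} := by
  funext m
  rw [zi, zI]
  by_cases h : m = i
  · subst h
    rw [Pi.mulSingle_eq_same, if_pos (Finset.mem_singleton_self _)]
  · rw [Pi.mulSingle_eq_of_ne h, if_neg (by rwa [Finset.mem_singleton])]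

theorem zI_comm (I : Finset (Fin n)) (f : Fin n → D) : f * zI I = zI I * f := by
  funext m
  rw [Pi.mul_apply, Pi.mul_apply, zI]
  split_ifs
  · exact z_comm _
  · rw [mul_one, one_mul]

/-- the centre -/
def Zc (n : ℕ) : Subgroup (Fin n → D) := Rm (fun _ => true) ⊓ Rm (fun _ => false)

theorem mem_Zc {f : Fin n → D} : f ∈ Zc n ↔ ∀ i, f i = 1 ∨ f i = z := by
  constructor
  · intro hf i
    exact eq_one_or_z (hf.2 i) (hf.1 i)
  · intro hf
    obtain ⟨I, rfl⟩ := exists_zI hf
    exact ⟨zI_mem_Rm _ _, zI_mem_Rm _ _⟩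

theorem Zc_comm {f : Fin n → D} (hf : f ∈ Zc n) (g : Fin n → D) : g * f = f * g := by
  obtain ⟨I, rfl⟩ := exists_zI (mem_Zc.1 hf)
  exact zI_comm _ _

instance : (Zc n).Normal := ⟨fun f hf g => by
  rw [Zc_comm hf g, mul_inv_cancel_right]; exact hf⟩

theorem comm_mem_Zc (x y : Fin n → D) : x * y * x⁻¹ * y⁻¹ ∈ Zc n := by
  rw [mem_Zc]
  intro i
  exact comm_eq (x i) (y i)

theorem Zc_le_Rm (β : Fin n → Bool) : Zc n ≤ Rm β := by
  intro f hf
  obtain ⟨I, rfl⟩ := exists_zI (mem_Zc.1 hf)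
  exact zI_mem_Rm _ _

/-- elementary abelian subgroups of order `4 ^ n` contain the centre -/
theorem Zc_le (A : Subgroup (Fin n → D)) (hA : ∀ a ∈ A, a * a = 1) (hc : Nat.card A = 4 ^ n) : Zc n ≤ A := by
  have h1 : ∀ x ∈ A ⊔ Zc n, x * x = 1 := by
    intro x hx
    rw [mem_sup_of_normal_right] at hx
    obtain ⟨y, hy, w, hw, rfl⟩ := hx
    have h2 := Zc_comm hw y
    have h3 : w * w = 1 := Rm_sq (Zc_le_Rm (fun _ => true) hw)
    calc y * w * (y * w) = y * (w * y) * w := by group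
      _ = (y * y) * (w * w) := by rw [← h2]; group
      _ = 1 := by rw [hA y hy, h3, one_mul]
  have h2 := card_le _ h1
  have h3 : A = A ⊔ Zc n := eq_of_le_of_card_ge le_sup_left (by rw [hc]; exact h2)
  rw [h3]
  exact le_sup_right

theorem conj_mem_of_Zc_le {A : Subgroup (Fin n → D)} (hA : Zc n ≤ A) (y : Fin n → D) {x : Fin n → D} (hx : x ∈ A) :
    y * x * y⁻¹ ∈ A := by
  have h1 := hA (comm_mem_Zc y x)
  have h2 : y * x * y⁻¹ = y * x * y⁻¹ * x⁻¹ * x := by group
  rw [h2]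
  exact A.mul_mem h1 hx

namespace KD

variable {P : Sylow 2 G} {C : Subgroup G} {j : (Fin n → D) →* G}

omit [Finite G] in
/-- the rank condition -/
theorem rank_mem (h : KD P C j) {β : Fin n → Bool} {g : G} (hg : ∀ f ∈ Rm β, g * j f * g⁻¹ ∈ (P : Subgroup G)) :
    ∀ f ∈ Rm β, g * j f * g⁻¹ ∈ j.range := by
  have h1 : ((Rm β).map j).map (MulAut.conj g).toMonoidHom ≤ j.range := by
    apply h.rank
    · rintro _ ⟨_, ⟨f, hf, rfl⟩, rfl⟩
      exact hg f hf
    · rintro _ ⟨_, ⟨f, hf, rfl⟩, rfl⟩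
      rw [← map_mul, ← map_mul, Rm_sq hf, map_one, map_one]
    · rw [Subgroup.card_map_of_injective (MulAut.conj g).injective, Subgroup.card_map_of_injective h.inj, card_Rm]
  intro f hf
  exact h1 ⟨j f, ⟨f, hf, rfl⟩, rfl⟩

/-- `J` is weakly closed in `P` -/
theorem range_wc (h : KD P C j) {g : G} (hg : ∀ f, g * j f * g⁻¹ ∈ (P : Subgroup G)) :
    ∀ f, g * j f * g⁻¹ ∈ j.range := by
  intro f
  choose e f' he hf' hm using fun i => exists_mul (f i)
  have h1 : f = e * f' := by funext i; exact hm i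
  have h2 := h.rank_mem (β := fun _ => true) (g := g) (fun f _ => hg f) e (fun i => he i)
  have h3 := h.rank_mem (β := fun _ => false) (g := g) (fun f _ => hg f) f' (fun i => hf' i)
  have h4 : g * j f * g⁻¹ = g * j e * g⁻¹ * (g * j f' * g⁻¹) := by rw [h1, map_mul]; group
  rw [h4]
  exact j.range.mul_mem h2 h3

/-- conjugation maps onto -/
theorem exists_preimage {j : (Fin n → D) →* G} {R : Subgroup (Fin n → D)} {g : G} (hg : ∀ f ∈ R, g * j f * g⁻¹ ∈ R.map j)
    {y : Fin n → D} (hy : y ∈ R) : ∃ x ∈ R, g * j x * g⁻¹ = j y := by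
  have h1 : ∀ x ∈ R.map j, g * x * g⁻¹ ∈ R.map j := by
    rintro _ ⟨f, hf, rfl⟩; exact hg f hf
  obtain ⟨x, hx, hxe⟩ := conj_mem_of_le h1 (j y) ⟨y, hy, rfl⟩
  exact ⟨x, hx, by rw [hxe]; group⟩

/-- if `g` normalises `R_b` and moves `x_i = (rr (!b))_i` into `J`, the image has exactly one component outside `RD b` -/
theorem exists_image (h : KD P C j) {b : Bool} {g : G}
    (hR : ∀ f ∈ Rm (fun _ : Fin n => b), g * j f * g⁻¹ ∈ (Rm (fun _ : Fin n => b)).map j) {i : Fin n} {x' : Fin n → D}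
    (hx : g * j (Pi.mulSingle i (rr !b)) * g⁻¹ = j x') :
    ∃ l, g * j (zi i) * g⁻¹ = j (zi l) ∧ chi (!b) (x' l) ≠ 1 ∧ ∀ m, chi (!b) (x' m) ≠ 1 → m = l := by
  have h1 : ∀ m, chi (!b) (x' m) ≠ 1 → g * j (zi i) * g⁻¹ = j (zi m) := by
    intro m hm
    obtain ⟨y, hy, hye⟩ := exists_preimage hR (single_mem_Rm (β := fun _ => b) (i := m) (chi_not_rr b))
    exact zi_map h.inj hx hye (comm_ne_one b hm (chi_not_rr b) (by rw [chi_rr]; decide))
  have h2 : ∃ l, chi (!b) (x' l) ≠ 1 := by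
    by_contra hcon
    push Not at hcon
    have h3 : x' ∈ Rm (fun _ : Fin n => b) := hcon
    obtain ⟨y, hy, hye⟩ := exists_preimage hR h3
    have h4 : j y = j (Pi.mulSingle i (rr !b)) := by
      rw [← hx] at hye
      exact mul_left_cancel (mul_right_cancel hye)
    have h5 := h.inj h4
    have h6 := hy i
    rw [h5, Pi.mulSingle_eq_same, chi_rr] at h6
    revert h6; decide
  obtain ⟨l, hl⟩ := h2
  refine ⟨l, h1 l hl, hl, ?_⟩
  intro m hm
  have h3 := (h1 m hm).symm.trans (h1 l hl)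
  exact zi_inj (h.inj h3)

/-- elements normalising `J` normalise `E` and `F` -/
theorem norm_R (h : KD P C j) {g : G} (hg : ∀ f, g * j f * g⁻¹ ∈ j.range) (b : Bool) :
    ∀ f ∈ Rm (fun _ : Fin n => b), g * j f * g⁻¹ ∈ (Rm (fun _ : Fin n => b)).map j := by
  have hE := h.norm g (h.mem_C hg) hg
  rcases b with _ | _
  swap
  · exact hE
  obtain ⟨σ, hσi, hσ⟩ := exists_perm h.inj hg
  have hσs := Finite.injective_iff_surjective.1 hσi
  choose x' hx' using fun i : Fin n => hg (Pi.mulSingle i (rr false))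
  have hA : ∀ i, chi false (x' i (σ i)) ≠ 1 ∧ ∀ m, chi false (x' i m) ≠ 1 → m = σ i := by
    intro i
    obtain ⟨l, hl1, hl2, hl3⟩ := h.exists_image (b := true) hE (i := i) (hx' i).symm
    have h1 : l = σ i := by
      rw [hσ] at hl1
      exact (zi_inj (h.inj hl1)).symm
    rw [← h1]
    exact ⟨hl2, hl3⟩
  have hF : ∀ i, x' i ∈ Rm (fun _ : Fin n => false) := by
    intro i m
    change chi true (x' i m) = 1
    by_cases hm : m = σ i
    · apply mem_of_sq' true _ (by rw [hm]; exact (hA i).1)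
      have h1 : j (x' i * x' i) = 1 := by
        rw [map_mul, hx']
        have h2 : j (Pi.mulSingle i (rr false)) * j (Pi.mulSingle i (rr false)) = 1 := by
          rw [← map_mul, Rm_sq (single_mem_Rm (β := fun _ => false) (chi_not_rr false)), map_one]
        calc g * j (Pi.mulSingle i (rr false)) * g⁻¹ * (g * j (Pi.mulSingle i (rr false)) * g⁻¹)
            = g * (j (Pi.mulSingle i (rr false)) * j (Pi.mulSingle i (rr false))) * g⁻¹ := by group
          _ = 1 := by rw [h2]; group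
      rw [← map_one j] at h1
      exact congrFun (h.inj h1) m
    · obtain ⟨i', rfl⟩ := hσs m
      have hne : i' ≠ i := fun e => hm (by rw [e])
      by_contra hcon
      have h1 : chi false (x' i (σ i')) = 1 := by
        by_contra h2
        exact hm ((hA i).2 _ h2)
      have h2 := comm_ne_one true (hA i').1 h1 hcon
      have h3 : (Pi.mulSingle i' (rr false) : Fin n → D) * Pi.mulSingle i (rr false) =
          Pi.mulSingle i (rr false) * Pi.mulSingle i' (rr false) := by
        exact Rm_comm (single_mem_Rm (β := fun _ => false) (chi_not_rr false))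
          (single_mem_Rm (β := fun _ => false) (chi_not_rr false))
      have h4 : j (x' i' * x' i) = j (x' i * x' i') := by
        rw [map_mul, map_mul, hx', hx']
        have h5 := congrArg j h3
        rw [map_mul, map_mul] at h5
        calc g * j (Pi.mulSingle i' (rr false)) * g⁻¹ * (g * j (Pi.mulSingle i (rr false)) * g⁻¹)
            = g * (j (Pi.mulSingle i' (rr false)) * j (Pi.mulSingle i (rr false))) * g⁻¹ := by group
          _ = _ := by rw [h5]; group
      have h5 := congrFun (h.inj h4) (σ i')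
      rw [Pi.mul_apply, Pi.mul_apply] at h5
      rw [h5, mul_inv_cancel_right, mul_inv_cancel] at h2
      exact z_ne_one h2.symm
  intro f hf
  have h1 : f ∈ ((Rm (fun _ : Fin n => false)).map j).comap ((MulAut.conj g).toMonoidHom.comp j) := by
    apply pi_mem_of_mulSingle_mem
    intro i
    have hz : g * j (zi i) * g⁻¹ ∈ (Rm (fun _ : Fin n => false)).map j := by
      rw [hσ, zi_eq_zI]
      exact ⟨_, zI_mem_Rm _ _, rfl⟩
    have hr : g * j (Pi.mulSingle i (rr false)) * g⁻¹ ∈ (Rm (fun _ : Fin n => false)).map j := by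
      rw [← hx']
      exact ⟨_, hF i, rfl⟩
    change g * j (Pi.mulSingle i (f i)) * g⁻¹ ∈ (Rm (fun _ : Fin n => false)).map j
    rcases cases_R false (hf i) with h2 | h2 | h2 | h2
    · rw [h2, Pi.mulSingle_one, map_one, mul_one, mul_inv_cancel]
      exact one_mem _
    · rw [h2]; exact hz
    · rw [h2]; exact hr
    · have h3 : g * j (Pi.mulSingle i (rr false * z)) * g⁻¹ =
          g * j (Pi.mulSingle i (rr false)) * g⁻¹ * (g * j (zi i) * g⁻¹) := by
        rw [Pi.mulSingle_mul, map_mul, zi]; group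
      rw [h2, h3]
      exact mul_mem hr hz
  exact h1

/-- `E` and `F` are weakly closed in `P` -/
theorem wc_R (h : KD P C j) (b : Bool) {g : G} (hg : ∀ f ∈ Rm (fun _ : Fin n => b), g * j f * g⁻¹ ∈ (P : Subgroup G)) :
    ∀ f ∈ Rm (fun _ : Fin n => b), g * j f * g⁻¹ ∈ (Rm (fun _ : Fin n => b)).map j := by
  have : Fact (Nat.Prime 2) := ⟨Nat.prime_two⟩
  set R : Subgroup (Fin n → D) := Rm (fun _ : Fin n => b) with hRdef
  have hran := h.rank_mem hg
  set R' : Subgroup G := (R.map j).map (MulAut.conj g).toMonoidHom with hR'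
  have hR'le : R' ≤ j.range := by
    rintro _ ⟨_, ⟨f, hf, rfl⟩, rfl⟩
    exact hran f hf
  have hcard : Nat.card (R'.comap j) = 4 ^ n := by
    have h1 : (R'.comap j).map j = R' := by
      rw [map_comap_eq, inf_eq_right]; exact hR'le
    rw [← Subgroup.card_map_of_injective h.inj, h1, hR', Subgroup.card_map_of_injective (MulAut.conj g).injective,
      Subgroup.card_map_of_injective h.inj, card_Rm]
  have hsq : ∀ a ∈ R'.comap j, a * a = 1 := by
    rintro a ⟨_, ⟨f, hf, rfl⟩, hfa⟩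
    apply h.inj
    rw [map_mul, map_one, ← hfa, ← map_mul, ← map_mul, Rm_sq hf, map_one, map_one]
  have hZ := Zc_le _ hsq hcard
  have hJN : j.range ≤ normalizer (R' : Set G) := by
    rintro _ ⟨y, rfl⟩
    apply mem_normalizer_fintype
    intro x hx
    obtain ⟨f, rfl⟩ := hR'le hx
    have h1 := conj_mem_of_Zc_le hZ y (x := f) hx
    rw [mem_comap, map_mul, map_mul, map_inv] at h1
    exact h1
  have hgN : ∀ x ∈ j.range, g * x * g⁻¹ ∈ normalizer (R' : Set G) := by
    rintro _ ⟨y, rfl⟩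
    apply mem_normalizer_fintype
    rintro _ ⟨_, ⟨f, hf, rfl⟩, rfl⟩
    refine ⟨j (y * f * y⁻¹), ⟨_, conj_mem_of_Zc_le (Zc_le_Rm _) y hf, rfl⟩, ?_⟩
    have h1 : j (y * f * y⁻¹) = j y * j f * (j y)⁻¹ := by rw [map_mul, map_mul, map_inv]
    change g * j (y * f * y⁻¹) * g⁻¹ = g * j y * g⁻¹ * (g * j f * g⁻¹) * (g * j y * g⁻¹)⁻¹
    rw [h1]
    group
  obtain ⟨c, hcN, hc⟩ := exists_conj_of_weakly_closed P j.range
    (by rintro _ ⟨f, rfl⟩; exact h.le f)
    (by
      intro g hg x hx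
      obtain ⟨f, rfl⟩ := hx
      exact h.range_wc (fun f => hg _ ⟨f, rfl⟩) f) (normalizer (R' : Set G)) hJN g hgN
  have hcg := h.norm_R (g := c * g) (fun f => hc _ ⟨f, rfl⟩) b
  intro f hf
  have h1 : c⁻¹ * (g * j f * g⁻¹) * c ∈ R' := by
    have h2 := (mem_normalizer_iff.1 ((normalizer (R' : Set G)).inv_mem hcN) (g * j f * g⁻¹)).1 ⟨j f, ⟨f, hf, rfl⟩, rfl⟩
    rwa [inv_inv] at h2
  obtain ⟨_, ⟨f1, hf1, rfl⟩, hf2⟩ := h1
  have h3 := hcg f1 hf1
  have h4 : c * g * j f1 * (c * g)⁻¹ = g * j f * g⁻¹ := by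
    have h5 : g * j f1 * g⁻¹ = c⁻¹ * (g * j f * g⁻¹) * c := hf2
    calc c * g * j f1 * (c * g)⁻¹ = c * (g * j f1 * g⁻¹) * c⁻¹ := by group
      _ = _ := by rw [h5]; group
  rwa [h4] at h3

/-- conjugate elements of the centre of `J` have the same number of components -/
theorem card_eq_of_conj (h : KD P C j) {g : G} {I I' : Finset (Fin n)} (hg : g * j (zI I) * g⁻¹ = j (zI I')) :
    I.card = I'.card := by
  have : Fact (Nat.Prime 2) := ⟨Nat.prime_two⟩
  obtain ⟨c, hcN, hc⟩ := exists_conj_of_weakly_closed P j.range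
    (by rintro _ ⟨f, rfl⟩; exact h.le f)
    (by
      intro g hg x hx
      obtain ⟨f, rfl⟩ := hx
      exact h.range_wc (fun f => hg _ ⟨f, rfl⟩) f) (centralizer {j (zI I')})
    (by
      rintro _ ⟨f, rfl⟩
      rw [mem_centralizer_singleton_iff, ← map_mul, ← map_mul, zI_comm]) g
    (by
      rintro _ ⟨f, rfl⟩
      rw [mem_centralizer_singleton_iff, ← hg]
      have h1 : j f * j (zI I) = j (zI I) * j f := by rw [← map_mul, ← map_mul, zI_comm]
      calc g * j f * g⁻¹ * (g * j (zI I) * g⁻¹) = g * (j f * j (zI I)) * g⁻¹ := by group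
        _ = _ := by rw [h1]; group)
  obtain ⟨σ, hσi, hσ⟩ := exists_perm h.inj (fun f => hc _ ⟨f, rfl⟩)
  have h1 := zI_map hσi (I := I) (fun i _ => hσ i)
  have h2 : c * g * j (zI I) * (c * g)⁻¹ = j (zI I') := by
    rw [mem_centralizer_singleton_iff] at hcN
    calc c * g * j (zI I) * (c * g)⁻¹ = c * (g * j (zI I) * g⁻¹) * c⁻¹ := by group
      _ = j (zI I') := by rw [hg, hcN, mul_inv_cancel_right]
  rw [h1] at h2
  rw [← zI_inj (h.inj h2), Finset.card_image_of_injective _ hσi]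

end KD

end Cfsg.Agent.H244.Kondo
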